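import Groth.Agent.ExtSupp.K787.Subterminal

/-!
# Restriction of `M/M_U` and excision
-/

set_option autoImplicit false

universe w w' u

open CategoryTheory CategoryTheory.Limits CategoryTheory.Abelian Opposite

namespace K787.Excise

open K787.Sections

section NoPush

variable {C : Type u} [SmallCategory C] {J : GrothendieckTopology C} {O : Sheaf J CommRingCat.{u}}
  (U : C)

/-- The projection `X ⟶ X/X_U`. -/
noncomputable abbrev qπ (X : ModSite.Mod O) : X ⟶ (ModSite.quotOn O U).obj X := (ModSite.quotOnπ O U).app X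

/-- `M/M_U` is null on `U` (no hypothesis on `U`). -/
theorem isNullOn_quotOn (M : ModSite.Mod O) : ModSite.IsNullOn O U ((ModSite.quotOn O U).obj M) := by
  rw [isNullOn_iff]
  intro V r x
  have := QuotSect.epi_quotOnπ O U M
  obtain ⟨R, hR, h⟩ := exists_of_epi (qπ U M) x
  refine eq_zero_of_locally _ _ R hR fun W g hg => ?_
  obtain ⟨m, hm⟩ := h g hg
  obtain ⟨y, rfl⟩ := Support.exists_counit U (g ≫ r) M m
  rw [← hm]
  exact congrArg (fun (t : ExtSupp.openMod U M ⟶ (ModSite.quotOn O U).obj M) => ev t W y)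
    (cokernel.condition ((ModSite.extZeroAdj O U).counit.app M))

/-- A section of `M` which is locally zero or defined over an object mapping to `U` dies in `M/M_U`. -/
theorem π_eq_zero_of_locally (M : ModSite.Mod O) {V : C} (m : ModSite.sect M V)
    (R : Sieve V) (hR : R ∈ J V)
    (h : ∀ ⦃W : C⦄ (g : W ⟶ V), R g → rs M g m = 0 ∨ Nonempty (W ⟶ U)) :
    ev (qπ U M) V m = 0 := by
  refine eq_zero_of_locally _ _ R hR fun W g hg => ?_
  refine (ev_rs _ _ _).symm.trans ?_
  rcases h g hg with h0 | ⟨⟨r⟩⟩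
  · refine (congrArg _ h0).trans ?_
    exact map_zero _
  · exact (isNullOn_iff U _).1 (isNullOn_quotOn U M) r _

/-- A map out of `M` into a module null on `U` factors through `M/M_U`. -/
noncomputable def nullDesc {M F : ModSite.Mod O} (f : M ⟶ F) (hF : ModSite.IsNullOn O U F) :
    (ModSite.quotOn O U).obj M ⟶ F :=
  cokernel.desc _ f (QuotSect.counit_comp_eq_zero O U f (IsZero.eq_of_tgt hF _ _))

theorem π_nullDesc {M F : ModSite.Mod O} (f : M ⟶ F) (hF : ModSite.IsNullOn O U F) :
    qπ U M ≫ nullDesc U f hF = f := cokernel.π_desc _ _ _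

/-- If `f : M ⟶ F` is an epimorphism, `F` is null on `U` and the sections of `M` killed by `f` are locally zero or
over `U`, then `M/M_U ≅ F`. -/
theorem isIso_nullDesc {M F : ModSite.Mod O} (f : M ⟶ F) (hF : ModSite.IsNullOn O U F) [Epi f]
    (hf : ∀ (V : C) (m : ModSite.sect M V), ev f V m = 0 →
      ∃ R ∈ J V, ∀ ⦃W : C⦄ (g : W ⟶ V), R g → rs M g m = 0 ∨ Nonempty (W ⟶ U)) :
    IsIso (nullDesc U f hF) := by
  have h1 : Epi (nullDesc U f hF) := by
    have : Epi (qπ U M ≫ nullDesc U f hF) := by rw [π_nullDesc]; infer_instance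
    exact epi_of_epi (qπ U M) _
  have h2 : Mono (nullDesc U f hF) := by
    rw [mono_iff]
    intro V y hy
    have := QuotSect.epi_quotOnπ O U M
    obtain ⟨R, hR, h⟩ := exists_of_epi (qπ U M) y
    refine eq_zero_of_locally _ _ R hR fun W g hg => ?_
    obtain ⟨m, hm⟩ := h g hg
    rw [← hm]
    have h3 : ev f W m = 0 := by
      rw [← π_nullDesc U f hF, ev_comp]
      refine (congrArg _ hm).trans ?_
      rw [ev_rs, hy, map_zero]
    obtain ⟨T, hT, h'⟩ := hf W m h3
    exact π_eq_zero_of_locally U M m T hT h'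
  exact isIso_of_mono_of_epi _

end NoPush

section Over

variable {C : Type u} [SmallCategory C] {J : GrothendieckTopology C} {O : Sheaf J CommRingCat.{u}}
  (U V : C) (W : Over V) (w : W.left ⟶ U) (hW : ∀ (T : Over V) (_ : T.left ⟶ U), Nonempty (T ⟶ W))

include w hW in
/-- `M|_V/(M|_V)_W ≅ (M/M_U)|_V` if `W` is the product of `U` and `V`. -/
theorem nonempty_quotOn_restr (M : ModSite.Mod O) :
    Nonempty ((ModSite.quotOn (O.over V) W).obj ((ModSite.restr O V).obj M) ≅
      (ModSite.restr O V).obj ((ModSite.quotOn O U).obj M)) := by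
  have hF : ModSite.IsNullOn (O.over V) W ((ModSite.restr O V).obj ((ModSite.quotOn O U).obj M)) := by
    rw [isNullOn_iff]
    intro T t x
    exact (isNullOn_iff U _).1 (isNullOn_quotOn U M) (t.left ≫ w) x
  have := QuotSect.epi_quotOnπ O U M
  have he : Epi ((ModSite.restr O V).map (qπ U M)) := inferInstance
  have := isIso_nullDesc W ((ModSite.restr O V).map (qπ U M)) hF (fun T m hm => by
    obtain ⟨R, hR, h⟩ := Support.locally_of_π_eq_zero U M (V := T.left) m hm
    refine ⟨(Sieve.overEquiv T).symm R, J.overEquiv_symm_mem_over _ _ hR, ?_⟩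
    intro T' g hg
    rcases h g.left ((Sieve.overEquiv_symm_iff R g).1 hg) with h0 | ⟨⟨r⟩⟩
    · exact Or.inl h0
    · exact Or.inr (hW T' r))
  exact ⟨asIso (nullDesc W ((ModSite.restr O V).map (qπ U M)) hF)⟩

end Over

section Cover

variable {C : Type u} [SmallCategory C] {J : GrothendieckTopology C} {O : Sheaf J CommRingCat.{u}}
  (U V : C) (hV : ∀ X : C, Subsingleton (X ⟶ V)) (hUV : J.CoversTop (fun b : Bool => cond b U V))

include hV hUV in
/-- If `F` is null on `U`, `V` is subterminal and `U`, `V` cover, then `F_V ≅ F`. -/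
theorem isIso_counit (F : ModSite.Mod O) (hF : ModSite.IsNullOn O U F) :
    IsIso ((ModSite.extZeroAdj O V).counit.app F) := by
  have h1 := Subterminal.mono_counit V hV F
  have h2 : Epi ((ModSite.extZeroAdj O V).counit.app F) := by
    apply epi_of_exists
    intro T n
    refine ⟨_, hUV T, ?_⟩
    rintro W g ⟨b, ⟨r⟩⟩
    cases b with
    | false => exact Support.exists_counit V r F _
    | true =>
      refine ⟨0, ?_⟩
      rw [map_zero]
      exact ((isNullOn_iff U F).1 hF r _).symm
  exact isIso_of_mono_of_epi _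

end Cover

section Ext

variable {C : Type u} [SmallCategory C] {J : GrothendieckTopology C} {O : Sheaf J CommRingCat.{u}}

/-- `Ext(X, N)` only depends on `X` up to isomorphism. -/
theorem nonempty_ext_congr [HasExt.{w} (ModSite.Mod O)] {X Y : ModSite.Mod O} (e : X ≅ Y) (N : ModSite.Mod O) (n : ℕ) :
    Nonempty (Ext.{w} X N n ≃+ Ext.{w} Y N n) :=
  ⟨((((extFunctor.{w} (C := ModSite.Mod O) n).mapIso e.op).app N).symm).addCommGroupIsoToAddEquiv⟩

end Ext

end K787.Excise
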