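import Groth.Agent.ExtSupp.K787.TensSec
import Groth.Agent.ModSite.K291.Flat
import Mathlib.CategoryTheory.Preadditive.LeftExact

/-!
# `(X/X_U) ⊗ M ≅ (X ⊗ M)/(X ⊗ M)_U`
-/

set_option autoImplicit false

universe u

open CategoryTheory CategoryTheory.Limits Opposite MonoidalCategory

namespace K787.TensQuot

open K787.Sections K291.Mon

variable {C : Type u} [SmallCategory C] {J : GrothendieckTopology C} {O : Sheaf J CommRingCat.{u}}
  (U : C) [ModSite.HasPushOver O U]

omit [ModSite.HasPushOver O U] in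
/-- A map which kills sections over `U`, out of a module whose sections are locally zero or over `U`, is zero. -/
theorem comp_π_eq_zero {A M : ModSite.Mod O}
    (hA : ∀ (V : C) (m : ModSite.sect A V), ∃ R ∈ J V, ∀ ⦃W : C⦄ (g : W ⟶ V), R g →
      rs A g m = 0 ∨ Nonempty (W ⟶ U))
    (φ : A ⟶ M) (hM : ModSite.IsNullOn O U M) : φ = 0 := by
  apply hom_ext
  intro V m
  obtain ⟨R, hR, h⟩ := hA V m
  refine (eq_zero_of_locally _ _ R hR fun W g hg => ?_).trans (ev_zero _ _ _ _).symm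
  rw [← ev_rs]
  rcases h g hg with h0 | ⟨⟨r⟩⟩
  · rw [h0, map_zero]
  · exact (isNullOn_iff U M).1 hM r _

variable {U} in
omit [ModSite.HasPushOver O U] in
/-- The projection `X ⟶ X/X_U`. -/
noncomputable abbrev qπ (X : ModSite.Mod O) : X ⟶ (ModSite.quotOn O U).obj X := (ModSite.quotOnπ O U).app X

variable {U} in
omit [ModSite.HasPushOver O U] in
/-- The map `X_U ⟶ X`. -/
noncomputable abbrev cι (X : ModSite.Mod O) : ExtSupp.openMod U X ⟶ X := (ModSite.extZeroAdj O U).counit.app X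

omit [ModSite.HasPushOver O U] in
/-- Maps out of `X/X_U`. -/
noncomputable def qdesc {X Y : ModSite.Mod O} (f : X ⟶ Y) (h : cι (U := U) X ≫ f = 0) :
    (ModSite.quotOn O U).obj X ⟶ Y := cokernel.desc _ f h

omit [ModSite.HasPushOver O U] in
theorem π_qdesc {X Y : ModSite.Mod O} (f : X ⟶ Y) (h : cι (U := U) X ≫ f = 0) :
    qπ X ≫ qdesc U f h = f := cokernel.π_desc _ _ _

/-- The functor `- ⊗ M`. -/
noncomputable abbrev T (M : ModSite.Mod O) : ModSite.Mod O ⥤ ModSite.Mod O := (ModSite.tensorBi O).flip.obj M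

omit [ModSite.HasPushOver O U] in
theorem isNullOn_T {X : ModSite.Mod O} (M : ModSite.Mod O) (h : ModSite.IsNullOn O U X) :
    ModSite.IsNullOn O U ((T M).obj X) :=
  TensSec.isNullOn_tensor U X M h

omit [ModSite.HasPushOver O U] in
theorem locally_T {X : ModSite.Mod O} (M : ModSite.Mod O)
    (h : ∀ (V : C) (m : ModSite.sect X V), ∃ R ∈ J V, ∀ ⦃W : C⦄ (g : W ⟶ V), R g →
      rs X g m = 0 ∨ Nonempty (W ⟶ U)) (V : C) (m : ModSite.sect ((T M).obj X) V) :
    ∃ R ∈ J V, ∀ ⦃W : C⦄ (g : W ⟶ V), R g → rs ((T M).obj X) g m = 0 ∨ Nonempty (W ⟶ U) :=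
  TensSec.locally_tensor U X M h m

theorem counit_T (X M : ModSite.Mod O) : cι (U := U) ((T M).obj X) ≫
    (T M).map (qπ (U := U) X) = 0 := by
  apply QuotSect.counit_comp_eq_zero O U
  have h := isNullOn_T U M (ExtSupp.isNullOn_quotOn O U X)
  exact IsZero.eq_of_tgt h _ _

/-- `(X ⊗ M)/(X ⊗ M)_U ⟶ (X/X_U) ⊗ M`. -/
noncomputable def toT (X M : ModSite.Mod O) :
    (ModSite.quotOn O U).obj ((T M).obj X) ⟶ (T M).obj ((ModSite.quotOn O U).obj X) :=
  qdesc U ((T M).map (qπ (U := U) X)) (counit_T U X M)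

theorem π_toT (X M : ModSite.Mod O) :
    qπ (U := U) ((T M).obj X) ≫ toT U X M = (T M).map (qπ (U := U) X) :=
  π_qdesc U _ _

theorem exists_inv (X M : ModSite.Mod O) :
    ∃ s : (T M).obj ((ModSite.quotOn O U).obj X) ⟶ (ModSite.quotOn O U).obj ((T M).obj X),
      (T M).map (qπ (U := U) X) ≫ s = qπ (U := U) ((T M).obj X) := by
  have hT : PreservesFiniteColimits (T M) := inferInstance
  have hc := isColimitCoforkMapOfIsColimit' (T M) (cokernel.condition (cι (U := U) X))
    (cokernelIsCokernel (cι (U := U) X))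
  have h0 : (T M).map (cι (U := U) X) ≫
      qπ (U := U) ((T M).obj X) = 0 :=
    comp_π_eq_zero U (locally_T U M (fun V m => Support.extZero_supp U _ m)) _
      (ExtSupp.isNullOn_quotOn O U _)
  let l := CokernelCofork.IsColimit.desc' hc (qπ (U := U) ((T M).obj X)) h0
  exact ⟨l.1, l.2⟩

instance isIso_toT (X M : ModSite.Mod O) : IsIso (toT U X M) := by
  obtain ⟨s, hs⟩ := exists_inv U X M
  have h1 := QuotSect.epi_quotOnπ O U ((T M).obj X)
  have h2 := QuotSect.epi_quotOnπ O U X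
  have hT : PreservesFiniteColimits (T M) := inferInstance
  have h3 : Epi ((T M).map (qπ (U := U) X)) := inferInstance
  refine ⟨s, ?_, ?_⟩
  · rw [← cancel_epi (qπ (U := U) ((T M).obj X)), ← Category.assoc, π_toT, hs, Category.comp_id]
  · rw [← cancel_epi ((T M).map (qπ (U := U) X)), ← Category.assoc, hs, π_toT, Category.comp_id]

open scoped K291.Mon in
/-- `O/O_U ⊗ M ≅ M/M_U`. -/
noncomputable def quotUnitTensorIso (M : ModSite.Mod O) :
    (T M).obj ((ModSite.quotOn O U).obj (ModSite.unit O)) ≅ (ModSite.quotOn O U).obj M :=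
  (asIso (toT U (ModSite.unit O) M)).symm ≪≫ (ModSite.quotOn O U).mapIso (λ_ M)

end K787.TensQuot
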