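import Groth.Agent.CohtopA.TFree
import Groth.Agent.ExtSupp.K787.TensQuot
import Groth.Agent.S9081
import Groth.Agent.S9083
import Groth.Agent.S9094

/-!
# `Ext(P, R Q) = 0` for `P` in a suitable class, `R` a right adjoint and `Q` injective
-/

set_option autoImplicit false

universe w v u v' u'

open CategoryTheory CategoryTheory.Limits CategoryTheory.Abelian Opposite

namespace K787.FlatAcyc

section Abstract

variable {A : Type u} [Category.{v} A] [Abelian A] [HasExt.{w} A] [EnoughInjectives A]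
  {B : Type u'} [Category.{v'} B] {L : A ⥤ B} {R : B ⥤ A} (adj : L ⊣ R)

omit [Abelian A] [HasExt.{w} A] [EnoughInjectives A] in
include adj in
/-- If `L` sends the monomorphism of a short exact sequence to a monomorphism, maps to `R Q`, `Q` injective,
extend. -/
theorem exists_extend {X Y : A} (i : X ⟶ Y) (hi : Mono (L.map i)) (Q : B) [Injective Q] (f : X ⟶ R.obj Q) :
    ∃ g : Y ⟶ R.obj Q, i ≫ g = f := by
  refine ⟨adj.homEquiv Y Q (Injective.factorThru ((adj.homEquiv X Q).symm f) (L.map i)), ?_⟩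
  rw [← adj.homEquiv_naturality_left, Injective.comp_factorThru, Equiv.apply_symm_apply]

include adj in
/-- Vanishing of `Ext^(n+1)(X, R Q)` for `X` in a class `P` of objects such that all objects are quotients of
objects of `P`, kernels of epimorphisms in `P` are in `P`, and `L` is left exact on sequences in `P`. -/
theorem ext_eq_zero (P : A → Prop) (hP : ∀ X : A, ∃ (F : A) (p : F ⟶ X), Epi p ∧ P F)
    (hK : ∀ S : ShortComplex A, S.ShortExact → P S.X₂ → P S.X₃ → P S.X₁)
    (hL : ∀ S : ShortComplex A, S.ShortExact → P S.X₂ → P S.X₃ → Mono (L.map S.f))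
    (Q : B) [Injective Q] (n : ℕ) :
    ∀ X : A, P X → ∀ x : Ext.{w} X (R.obj Q) (n + 1), x = 0 := by
  induction n with
  | zero =>
    intro X hX x
    obtain ⟨P₀, p, hp, hx⟩ := Groth.Agent.CohtopA.TFree.exists_epi_comp_eq_zero 0 X (R.obj Q) x
    obtain ⟨F, p', hp', hF⟩ := hP P₀
    let q : F ⟶ X := p' ≫ p
    have hq : Epi q := epi_comp _ _
    have hx' : (Ext.mk₀ q).comp x (zero_add (0 + 1)) = 0 := by
      rw [← Ext.mk₀_comp_mk₀_assoc, hx, Ext.comp_zero]
    let S : ShortComplex A := ShortComplex.mk (kernel.ι q) q (by simp)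
    have hS : S.ShortExact :=
      { exact := ShortComplex.exact_of_f_is_kernel _ (kernelIsKernel _)
        mono_f := by dsimp [S]; infer_instance
        epi_g := hq }
    obtain ⟨y, rfl⟩ := Ext.contravariant_sequence_exact₃ hS (R.obj Q) x hx' (n₀ := 0) (by omega)
    obtain ⟨f, rfl⟩ := Ext.addEquiv₀.symm.surjective y
    obtain ⟨g, rfl⟩ := exists_extend adj S.f (hL S hS hF hX) Q f
    change hS.extClass.comp (Ext.mk₀ (S.f ≫ g)) _ = 0
    rw [← Ext.mk₀_comp_mk₀, ← Ext.comp_assoc_of_third_deg_zero, ShortComplex.ShortExact.extClass_comp,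
      Ext.zero_comp]
  | succ n ih =>
    intro X hX x
    obtain ⟨P₀, p, hp, hx⟩ := Groth.Agent.CohtopA.TFree.exists_epi_comp_eq_zero (n + 1) X (R.obj Q) x
    obtain ⟨F, p', hp', hF⟩ := hP P₀
    let q : F ⟶ X := p' ≫ p
    have hq : Epi q := epi_comp _ _
    have hx' : (Ext.mk₀ q).comp x (zero_add (n + 2)) = 0 := by
      rw [← Ext.mk₀_comp_mk₀_assoc, hx, Ext.comp_zero]
    let S : ShortComplex A := ShortComplex.mk (kernel.ι q) q (by simp)
    have hS : S.ShortExact :=
      { exact := ShortComplex.exact_of_f_is_kernel _ (kernelIsKernel _)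
        mono_f := by dsimp [S]; infer_instance
        epi_g := hq }
    obtain ⟨y, rfl⟩ := Ext.contravariant_sequence_exact₃ hS (R.obj Q) x hx' (n₀ := n + 1) (by omega)
    rw [ih (kernel q) (hK S hS hF hX) y, Ext.comp_zero]

end Abstract

section ModSite

variable {C : Type u} [SmallCategory C] {J : GrothendieckTopology C} {O : Sheaf J CommRingCat.{u}}
  [HasExt.{w} (ModSite.Mod O)]

/-- `Ext^(n+1)(P, R Q) = 0` for `P` flat, `Q` injective and `R` a right adjoint of a functor which sends short exact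
sequences of flat modules to sequences exact on the left. -/
theorem ext_eq_zero_of_flat {B : Type u'} [Category.{v'} B] {L : ModSite.Mod O ⥤ B} {R : B ⥤ ModSite.Mod O}
    (adj : L ⊣ R) (hL : ∀ S : ShortComplex (ModSite.Mod O), S.ShortExact → ModSite.IsFlat S.X₂ →
      ModSite.IsFlat S.X₃ → Mono (L.map S.f)) (Q : B) [Injective Q] (n : ℕ)
    (X : ModSite.Mod O) (hX : ModSite.IsFlat X) (x : Ext.{w} X (R.obj Q) (n + 1)) : x = 0 := by
  have := RestrAb.hasEnoughInjectives O
  refine ext_eq_zero adj ModSite.IsFlat (fun X => ?_) (fun S hS h2 h3 => Groth.Agent.S9083.result O S hS h2 h3)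
    hL Q n X hX x
  obtain ⟨G, π, hG, hπ⟩ := Groth.Agent.S9094.result O X
  exact ⟨G, π, hπ, hG⟩

/-- `Ext^(n+1)(P, ℋom(M, Q)) = 0` for `P` flat, `Q` injective. -/
theorem ext_sheafHom_eq_zero (M : ModSite.Mod O) [ModSite.HasSheafHom M] (Q : ModSite.Mod O) [Injective Q] (n : ℕ)
    (X : ModSite.Mod O) (hX : ModSite.IsFlat X) (x : Ext.{w} X ((ModSite.sheafHom M).obj Q) (n + 1)) : x = 0 := by
  refine ext_eq_zero_of_flat (ModSite.sheafHomAdj M) (fun S hS _ h3 => ?_) Q n X hX x
  exact (Groth.Agent.S9081.result O S hS h3 M).mono_f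

variable (U : C) [ModSite.HasPushOver O U]

omit [HasExt.{w} (ModSite.Mod O)] in
theorem toT_naturality {X X' : ModSite.Mod O} (f : X ⟶ X') (M : ModSite.Mod O) :
    TensQuot.toT U X M ≫ (TensQuot.T M).map ((ModSite.quotOn O U).map f) =
      (ModSite.quotOn O U).map ((TensQuot.T M).map f) ≫ TensQuot.toT U X' M := by
  have h1 := QuotSect.epi_quotOnπ O U ((TensQuot.T M).obj X)
  rw [← cancel_epi (TensQuot.qπ (U := U) ((TensQuot.T M).obj X)), ← Category.assoc, TensQuot.π_toT,
    ← Functor.map_comp]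
  have n1 : TensQuot.qπ (U := U) X ≫ (ModSite.quotOn O U).map f = f ≫ TensQuot.qπ X' :=
    ((ModSite.quotOnπ O U).naturality f).symm
  have n2 : TensQuot.qπ (U := U) ((TensQuot.T M).obj X) ≫ (ModSite.quotOn O U).map ((TensQuot.T M).map f) =
      (TensQuot.T M).map f ≫ TensQuot.qπ ((TensQuot.T M).obj X') :=
    ((ModSite.quotOnπ O U).naturality ((TensQuot.T M).map f)).symm
  rw [n1, Functor.map_comp, ← Category.assoc, n2, Category.assoc, TensQuot.π_toT]

omit [HasExt.{w} (ModSite.Mod O)] in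
theorem mono_quotOn_T {X X' : ModSite.Mod O} (f : X ⟶ X') (M : ModSite.Mod O) (h : Mono ((TensQuot.T M).map f)) :
    Mono ((ModSite.quotOn O U ⋙ TensQuot.T M).map f) := by
  have h1 : Mono ((ModSite.quotOn O U).map ((TensQuot.T M).map f)) := inferInstance
  have h2 : (ModSite.quotOn O U ⋙ TensQuot.T M).map f =
      inv (TensQuot.toT U X M) ≫ (ModSite.quotOn O U).map ((TensQuot.T M).map f) ≫ TensQuot.toT U X' M := by
    rw [← toT_naturality, IsIso.inv_hom_id_assoc]
    rfl
  rw [h2]
  infer_instance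

/-- `Ext^(n+1)(P, Γ_Z ℋom(M, Q)) = 0` for `P` flat, `Q` injective. -/
theorem ext_sectOn_sheafHom_eq_zero (M : ModSite.Mod O) [ModSite.HasSheafHom M] (Q : ModSite.Mod O) [Injective Q]
    (n : ℕ) (X : ModSite.Mod O) (hX : ModSite.IsFlat X)
    (x : Ext.{w} X ((ModSite.sheafHom M ⋙ ModSite.sectOn O U).obj Q) (n + 1)) : x = 0 := by
  refine ext_eq_zero_of_flat ((QuotSect.adj O U).comp (ModSite.sheafHomAdj M)) (fun S hS _ h3 => ?_) Q n X hX x
  exact mono_quotOn_T U S.f M (Groth.Agent.S9081.result O S hS h3 M).mono_f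

omit [HasExt.{w} (ModSite.Mod O)] in
theorem toT_naturality_right (X : ModSite.Mod O) {M M' : ModSite.Mod O} (f : M ⟶ M') :
    TensQuot.toT U X M ≫ ((ModSite.tensorBi O).obj ((ModSite.quotOn O U).obj X)).map f =
      (ModSite.quotOn O U).map (((ModSite.tensorBi O).obj X).map f) ≫ TensQuot.toT U X M' := by
  have h1 := QuotSect.epi_quotOnπ O U ((TensQuot.T M).obj X)
  have n1 : (TensQuot.T M).map (TensQuot.qπ (U := U) X) ≫
      ((ModSite.tensorBi O).obj ((ModSite.quotOn O U).obj X)).map f =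
      ((ModSite.tensorBi O).obj X).map f ≫ (TensQuot.T M').map (TensQuot.qπ (U := U) X) :=
    (((ModSite.tensorBi O).map (TensQuot.qπ (U := U) X)).naturality f).symm
  have n2 : TensQuot.qπ (U := U) ((TensQuot.T M).obj X) ≫
      (ModSite.quotOn O U).map (((ModSite.tensorBi O).obj X).map f) =
      ((ModSite.tensorBi O).obj X).map f ≫ TensQuot.qπ ((TensQuot.T M').obj X) :=
    ((ModSite.quotOnπ O U).naturality (((ModSite.tensorBi O).obj X).map f)).symm
  have n3 : (TensQuot.qπ (U := U) ((TensQuot.T M).obj X) ≫ TensQuot.toT U X M) ≫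
      ((ModSite.tensorBi O).obj ((ModSite.quotOn O U).obj X)).map f =
      (TensQuot.qπ (U := U) ((TensQuot.T M).obj X) ≫
      (ModSite.quotOn O U).map (((ModSite.tensorBi O).obj X).map f)) ≫ TensQuot.toT U X M' := by
    rw [TensQuot.π_toT, n1, n2, Category.assoc, TensQuot.π_toT]
  rw [Category.assoc, Category.assoc] at n3
  exact (cancel_epi (TensQuot.qπ (U := U) ((TensQuot.T M).obj X))).1 n3

omit [HasExt.{w} (ModSite.Mod O)] in
open scoped K291.Mon in
open MonoidalCategory in
/-- `X/X_U` is flat if `X` is flat. -/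
theorem isFlat_quotOn (X : ModSite.Mod O) (hX : ModSite.IsFlat X) : ModSite.IsFlat ((ModSite.quotOn O U).obj X) := by
  rw [K291.Flat.isFlat_iff_mono']
  intro A B f _
  have h0 : Mono (((ModSite.tensorBi O).obj X).map f) := K291.Flat.IsFlat.mono' hX f
  have h1 : Mono ((ModSite.quotOn O U).map (((ModSite.tensorBi O).obj X).map f)) := inferInstance
  have h2 : ((ModSite.tensorBi O).obj ((ModSite.quotOn O U).obj X)).map f =
      inv (TensQuot.toT U X A) ≫ (ModSite.quotOn O U).map (((ModSite.tensorBi O).obj X).map f) ≫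
        TensQuot.toT U X B := by
    rw [← toT_naturality_right, IsIso.inv_hom_id_assoc]
  change Mono (((ModSite.tensorBi O).obj ((ModSite.quotOn O U).obj X)).map f)
  rw [h2]
  infer_instance

end ModSite

end K787.FlatAcyc
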