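import Groth.Prelude.Def_ToposFin2
import Mathlib.CategoryTheory.Sites.EpiMono
import Mathlib.CategoryTheory.Sites.Abelian
import Mathlib.CategoryTheory.Sites.LocallyBijective
import Mathlib.Algebra.Category.Grp.FilteredColimits

/-!
# The free abelian sheaf on a sheaf of sets, elementwise
-/

set_option autoImplicit false

universe u

open CategoryTheory CategoryTheory.Limits Opposite

namespace K787.FreeAb

variable {C : Type u} [SmallCategory C] {J : GrothendieckTopology C}

/-- The element of `ℤ[K](V)` attached to an element of the free abelian group on `K(V)`. -/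
noncomputable def el (K : ToposFin.Sh J) {V : C} : FreeAbelianGroup (K.obj.obj (op V)) →+
    ((ToposFin.freeAb J).obj K).obj.obj (op V) :=
  ((toSheafify J (K.obj ⋙ AddCommGrpCat.free.{u})).app (op V)).hom

/-- The generator of `ℤ[K]` attached to a section of `K`. -/
noncomputable def gen (K : ToposFin.Sh J) {V : C} (x : K.obj.obj (op V)) :
    ((ToposFin.freeAb J).obj K).obj.obj (op V) := el K (FreeAbelianGroup.of x)

theorem map_el {K K' : ToposFin.Sh J} (φ : K ⟶ K') {V : C} (x : FreeAbelianGroup (K.obj.obj (op V))) :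
    ((ToposFin.freeAb J).map φ).hom.app (op V) (el K x) =
      el K' (FreeAbelianGroup.map (φ.hom.app (op V)) x) := by
  have h := toSheafify_naturality J (Functor.whiskerRight φ.hom AddCommGrpCat.free.{u})
  exact (congrArg (fun t => t.app (op V) x) h).symm

theorem map_gen {K K' : ToposFin.Sh J} (φ : K ⟶ K') {V : C} (x : K.obj.obj (op V)) :
    ((ToposFin.freeAb J).map φ).hom.app (op V) (gen K x) = gen K' (φ.hom.app (op V) x) :=
  map_el φ _

theorem res_el (K : ToposFin.Sh J) {V W : C} (g : W ⟶ V) (x : FreeAbelianGroup (K.obj.obj (op V))) :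
    ((ToposFin.freeAb J).obj K).obj.map g.op (el K x) =
      el K (FreeAbelianGroup.map (K.obj.map g.op) x) :=
  (congrArg (fun t => t x) (((toSheafify J (K.obj ⋙ AddCommGrpCat.free.{u})).naturality g.op))).symm

theorem res_gen (K : ToposFin.Sh J) {V W : C} (g : W ⟶ V) (x : K.obj.obj (op V)) :
    ((ToposFin.freeAb J).obj K).obj.map g.op (gen K x) = gen K (K.obj.map g.op x) :=
  res_el K g _

theorem hom_ext {K : ToposFin.Sh J} {F : Sheaf J AddCommGrpCat.{u}} {h h' : (ToposFin.freeAb J).obj K ⟶ F}
    (H : ∀ (V : C) (x : K.obj.obj (op V)), h.hom.app (op V) (gen K x) = h'.hom.app (op V) (gen K x)) :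
    h = h' := by
  apply Sheaf.hom_ext
  apply sheafify_hom_ext J _ _ F.property
  ext V x
  revert x
  refine fun (x : FreeAbelianGroup (K.obj.obj V)) => ?_
  induction x using FreeAbelianGroup.induction_on with
  | zero => exact (map_zero _).trans (map_zero _).symm
  | of x => exact H _ x
  | neg x hx => exact (map_neg _ _).trans ((congrArg _ hx).trans (map_neg _ _).symm)
  | add x y hx hy => exact (map_add _ _ _).trans ((congrArg₂ _ hx hy).trans (map_add _ _ _).symm)

theorem exists_hom (K : ToposFin.Sh J) (F : Sheaf J AddCommGrpCat.{u})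
    (φ : ∀ V : C, K.obj.obj (op V) → F.obj.obj (op V))
    (hφ : ∀ ⦃V W : C⦄ (g : W ⟶ V) (x : K.obj.obj (op V)), φ W (K.obj.map g.op x) = F.obj.map g.op (φ V x)) :
    ∃ h : (ToposFin.freeAb J).obj K ⟶ F, ∀ (V : C) (x : K.obj.obj (op V)),
      h.hom.app (op V) (gen K x) = φ V x := by
  let η : K.obj ⋙ AddCommGrpCat.free.{u} ⟶ F.obj :=
    { app := fun V => AddCommGrpCat.ofHom (FreeAbelianGroup.lift (φ (unop V)))
      naturality := fun V W g => by
        ext x
        revert x
        refine fun (x : FreeAbelianGroup (K.obj.obj V)) => ?_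
        change FreeAbelianGroup.lift (φ (unop W)) (FreeAbelianGroup.map (K.obj.map g) x) =
          F.obj.map g (FreeAbelianGroup.lift (φ (unop V)) x)
        induction x using FreeAbelianGroup.induction_on with
        | zero => rw [map_zero, map_zero, map_zero, map_zero]
        | of x =>
          rw [FreeAbelianGroup.map_of_apply, FreeAbelianGroup.lift_apply_of, FreeAbelianGroup.lift_apply_of]
          exact hφ g.unop x
        | neg x hx => rw [map_neg, map_neg, map_neg, map_neg, hx]
        | add x y hx hy => rw [map_add, map_add, map_add, map_add, hx, hy] }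
  refine ⟨⟨sheafifyLift J η F.property⟩, fun V x => ?_⟩
  have h := toSheafify_sheafifyLift J η F.property
  refine (congrArg (fun t => t.app (op V) (FreeAbelianGroup.of x)) h).trans ?_
  exact FreeAbelianGroup.lift_apply_of _ _

theorem exists_el (K : ToposFin.Sh J) {V : C} (t : ((ToposFin.freeAb J).obj K).obj.obj (op V)) :
    ∃ R ∈ J V, ∀ ⦃W : C⦄ (g : W ⟶ V), R g → ∃ z : FreeAbelianGroup (K.obj.obj (op W)),
      el K z = ((ToposFin.freeAb J).obj K).obj.map g.op t := by
  refine ⟨_, Presheaf.imageSieve_mem J (toSheafify J (K.obj ⋙ AddCommGrpCat.free.{u})) (U := op V) t, ?_⟩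
  rintro W g ⟨z, hz⟩
  exact ⟨z, hz⟩

/-- Sections of `eps J U` locally come from morphisms to `U`. -/
theorem exists_of_eps (U : C) {V : C} (x : (ToposFin.eps J U).obj.obj (op V)) :
    ∃ R ∈ J V, ∀ ⦃W : C⦄ (g : W ⟶ V), R g → Nonempty (W ⟶ U) := by
  refine ⟨_, Presheaf.imageSieve_mem J (toSheafify J (yoneda.obj U)) (U := op V) x, ?_⟩
  rintro W g ⟨z, _⟩
  exact ⟨z⟩

theorem nonempty_eps {U V : C} (g : V ⟶ U) : Nonempty ((ToposFin.eps J U).obj.obj (op V)) :=
  ⟨(toSheafify J (yoneda.obj U)).app (op V) g⟩

noncomputable instance unique_top (V : Cᵒᵖ) : Unique ((⊤_ (ToposFin.Sh J)).obj.obj V) :=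
  let F : ToposFin.Sh J ⥤ Type u := sheafToPresheaf J (Type u) ⋙ (evaluation _ _).obj V
  Types.isTerminalEquivUnique _ (IsTerminal.isTerminalObj F _ terminalIsTerminal)

end K787.FreeAb
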