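import Groth.Agent.ExtSupp.K787.RDExt
import Groth.Agent.ExtSupp.K787.TensQuot

/-!
# `Γ(Γ_Z ℋom(M, -)) ≅ Hom(M/M_U, -)`
-/

set_option autoImplicit false

universe u

open CategoryTheory CategoryTheory.Limits Opposite

namespace K787.GammaZ

variable {C : Type u} [SmallCategory C] {J : GrothendieckTopology C} {O : Sheaf J CommRingCat.{u}}
  (U : C) [ModSite.HasPushOver O U]

instance additive_quotOn : (ModSite.quotOn O U).Additive :=
  (QuotSect.adj O U).left_adjoint_additive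

/-- `Hom(X, Γ_Z(-)) ≅ Hom(X/X_U, -)`. -/
noncomputable def sectIso (X : ModSite.Mod O) :
    ModSite.sectOn O U ⋙ preadditiveCoyoneda.obj (op X) ≅
      preadditiveCoyoneda.obj (op ((ModSite.quotOn O U).obj X)) :=
  RDExt.coyoAdjIso (QuotSect.adj O U) X

/-- `Hom(X, ℋom(M, -)) ≅ Hom(X ⊗ M, -)`. -/
noncomputable def homIso (M : ModSite.Mod O) [ModSite.HasSheafHom M] (X : ModSite.Mod O) :
    ModSite.sheafHom M ⋙ preadditiveCoyoneda.obj (op X) ≅
      preadditiveCoyoneda.obj (op ((TensQuot.T M).obj X)) :=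
  RDExt.coyoAdjIso (ModSite.sheafHomAdj M) X

/-- `Γ(Γ_Z ℋom(M, -)) ≅ Hom(M/M_U, -)`. -/
noncomputable def gammaIso (M : ModSite.Mod O) [ModSite.HasSheafHom M] :
    ExtSupp.gammaZHom U M ≅ preadditiveCoyoneda.obj (op ((ModSite.quotOn O U).obj M)) :=
  Functor.isoWhiskerLeft (ModSite.sheafHom M) (sectIso U (ModSite.unit O)) ≪≫
    homIso M ((ModSite.quotOn O U).obj (ModSite.unit O)) ≪≫
    RDExt.coyoIso (TensQuot.quotUnitTensorIso U M)

end K787.GammaZ
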