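import Groth.Agent.ExtSupp.K787.QuotZ
import Groth.Agent.ExtSupp.K787.TensQuot
import Groth.Agent.CohtopA.ModExtUnit

/-!
# `Ext_O(O/O_U, G) ≅ H_Z(G)`
-/

set_option autoImplicit false

universe w u

open CategoryTheory CategoryTheory.Limits CategoryTheory.Abelian Opposite

namespace K787.HZExt

open K787.Sections K787.TensQuot

variable {C : Type u} [SmallCategory C] {J : GrothendieckTopology C} {O : Sheaf J CommRingCat.{u}}
  (U : C)

/-- The section `1` of the structure sheaf. -/
def u1 (O : Sheaf J CommRingCat.{u}) (V : C) : ModSite.sect (ModSite.unit O) V := (1 : O.obj.obj (op V))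

theorem rs_u1 {V W : C} (g : W ⟶ V) : rs (ModSite.unit O) g (u1 O V) = u1 O W :=
  (O.obj.map g.op).hom.map_one

theorem unit_hom_ext {M : ModSite.Mod O} {f g : ModSite.unit O ⟶ M} (h : ∀ V : C, ev f V (u1 O V) = ev g V (u1 O V)) :
    f = g := by
  apply hom_ext
  intro V m
  have e : m = (show O.obj.obj (op V) from m) • u1 O V := (mul_one (show O.obj.obj (op V) from m)).symm
  rw [e, ev_smul, ev_smul, h]

theorem exists_unit_hom (M : ModSite.Mod O) (s : ∀ V : C, ModSite.sect M V)
    (hs : ∀ ⦃V W : C⦄ (g : W ⟶ V), rs M g (s V) = s W) :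
    ∃ f : ModSite.unit O ⟶ M, ∀ V : C, ev f V (u1 O V) = s V := by
  let s' : SheafOfModules.sections M := PresheafOfModules.sectionsMk (M := M.val)
      (fun V => s (unop V)) (fun V W f => hs f.unop)
  refine ⟨(SheafOfModules.unitHomEquiv M).symm s', fun V => ?_⟩
  exact congrArg (fun t => t.val (op V)) ((SheafOfModules.unitHomEquiv M).apply_symm_apply s')

variable [ModSite.HasPushOver O U]

theorem exists_c : ∃ c : ToposFin.quotZ (ToposFin.eps J U) ⟶
      (SheafOfModules.toSheaf (ModSite.ringSh O)).obj ((ModSite.quotOn O U).obj (ModSite.unit O)),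
    ∀ V : C, c.hom.app (op V) (QuotZ.one U V) = ev (qπ (U := U) (ModSite.unit O)) V (u1 O V) := by
  refine QuotZ.exists_desc U
    ((SheafOfModules.toSheaf (ModSite.ringSh O)).obj ((ModSite.quotOn O U).obj (ModSite.unit O)))
    (fun V => ev (qπ (U := U) (ModSite.unit O)) V (u1 O V)) (fun V W g => ?_) (fun V r => ?_)
  · refine (ev_rs (qπ (U := U) (ModSite.unit O)) g (u1 O V)).symm.trans ?_
    rw [rs_u1]
  · exact (isNullOn_iff U _).1 (ExtSupp.isNullOn_quotOn O U (ModSite.unit O)) r _

theorem bijective_c (c : ToposFin.quotZ (ToposFin.eps J U) ⟶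
      (SheafOfModules.toSheaf (ModSite.ringSh O)).obj ((ModSite.quotOn O U).obj (ModSite.unit O)))
    (hc : ∀ V : C, c.hom.app (op V) (QuotZ.one U V) = ev (qπ (U := U) (ModSite.unit O)) V (u1 O V))
    (M : ModSite.Mod O) : Function.Bijective
      (fun (f : (ModSite.quotOn O U).obj (ModSite.unit O) ⟶ M) =>
        c ≫ (SheafOfModules.toSheaf (ModSite.ringSh O)).map f) := by
  have key : ∀ (f : (ModSite.quotOn O U).obj (ModSite.unit O) ⟶ M) (V : C),
      (c ≫ (SheafOfModules.toSheaf (ModSite.ringSh O)).map f).hom.app (op V) (QuotZ.one U V) =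
        ev f V (ev (qπ (U := U) (ModSite.unit O)) V (u1 O V)) := fun f V =>
    congrArg (fun t => ev f V t) (hc V)
  constructor
  · intro f f' h
    have := QuotSect.epi_quotOnπ O U (ModSite.unit O)
    rw [← cancel_epi (qπ (U := U) (ModSite.unit O))]
    apply unit_hom_ext
    intro V
    rw [ev_comp, ev_comp, ← key f V, ← key f' V]
    exact congrArg (fun (t : ToposFin.quotZ (ToposFin.eps J U) ⟶
      (SheafOfModules.toSheaf (ModSite.ringSh O)).obj M) => t.hom.app (op V) (QuotZ.one U V)) h
  · intro h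
    obtain ⟨g, hg⟩ := exists_unit_hom M (fun V => h.hom.app (op V) (QuotZ.one U V)) (fun V W g => by
      refine (NatTrans.naturality_apply h.hom g.op _).symm.trans ?_
      exact congrArg _ (QuotZ.map_one U g))
    have h0 : cι (U := U) (ModSite.unit O) ≫ g = 0 := by
      apply QuotSect.counit_comp_eq_zero O U
      apply hom_ext
      intro V m
      change ev g V.left m = 0
      have e : m = (show O.obj.obj (op V.left) from m) • u1 O V.left :=
        (mul_one (show O.obj.obj (op V.left) from m)).symm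
      refine (congrArg (ev g V.left) e).trans ?_
      have h1 : (h.hom.app (op V.left) (QuotZ.one U V.left) : ModSite.sect M V.left) = 0 :=
        (congrArg _ (QuotZ.quotZ_null U V.hom (QuotZ.one U V.left))).trans
          (map_zero (h.hom.app (op V.left)).hom)
      have h2 : ev g V.left (u1 O V.left) = 0 := (hg V.left).trans h1
      rw [ev_smul, h2]
      exact smul_zero (M := (ModSite.ringSh O).obj.obj (op V.left)) (A := M.val.obj (op V.left)) m
    refine ⟨qdesc U g h0, ?_⟩
    apply QuotZ.hom_ext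
    intro V
    refine (key _ V).trans ?_
    rw [← ev_comp, π_qdesc, hg]

/-- `Ext^n_O(O/O_U, M) ≃+ H^n_Z(M)`. -/
theorem nonempty_extEquiv [HasExt.{w} (ModSite.Mod O)] (M : ModSite.Mod O) (n : ℕ) :
    Nonempty (Ext.{w} ((ModSite.quotOn O U).obj (ModSite.unit O)) M n ≃+ ModSite.HZ U M n) := by
  obtain ⟨c, hc⟩ := exists_c (O := O) U
  have := Groth.Agent.CohtopA.ModExt.toSheaf_preservesFiniteColimits (ModSite.ringSh O)
  have := RestrAb.hasEnoughInjectives O
  exact ⟨Groth.Agent.CohtopA.ExtAdj.extOfHomEquiv (SheafOfModules.toSheaf (ModSite.ringSh O)) c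
    (bijective_c U c hc) (fun I _ n => subsingleton_of_forall_eq 0
      (fun x => Groth.Agent.CohtopA.ModExt.ext_toSheaf_eq_zero I n (QuotZ.tf_quotZ U) x)) M n⟩

end K787.HZExt
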