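import Groth.Prelude.Def_ExtSupp

/-!
# `M ↦ M/M_U` is left adjoint to `Γ_Z`

For a ringed site `(C, J, O)` and an object `U` such that restriction to `C/U` has a right adjoint
(`ModSite.HasPushOver O U`), the functor `ModSite.quotOn O U` is left adjoint to `ModSite.sectOn O U`.
-/

set_option autoImplicit false

universe u

open CategoryTheory CategoryTheory.Limits Opposite

namespace K787.QuotSect

variable {C : Type u} [SmallCategory C] {J : GrothendieckTopology C} (O : Sheaf J CommRingCat.{u})
  (U : C)

/-- A map out of `M` which vanishes after restriction to `U` kills the image of `M_U`. -/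
theorem counit_comp_eq_zero {M N : ModSite.Mod O} (φ : M ⟶ N)
    (h : (ModSite.restr O U).map φ = 0) : (ModSite.extZeroAdj O U).counit.app M ≫ φ = 0 :=
  (ExtSupp.mem_homZ_iff U φ).1 h

theorem restr_map_eq_zero_of_counit {M N : ModSite.Mod O} (φ : M ⟶ N)
    (h : (ModSite.extZeroAdj O U).counit.app M ≫ φ = 0) : (ModSite.restr O U).map φ = 0 :=
  (ExtSupp.mem_homZ_iff U φ).2 h

theorem epi_quotOnπ (M : ModSite.Mod O) : Epi ((ModSite.quotOnπ O U).app M) := by
  change Epi (coequalizer.π _ _); infer_instance

variable [ModSite.HasPushOver O U]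

theorem mono_sectOnι (N : ModSite.Mod O) : Mono ((ModSite.sectOnι O U).app N) := by
  change Mono (equalizer.ι _ _); infer_instance

theorem comp_unit_eq_zero {M N : ModSite.Mod O} (φ : M ⟶ N)
    (h : (ModSite.restr O U).map φ = 0) : φ ≫ (ModSite.restrPushOverAdj O U).unit.app N = 0 := by
  apply ((ModSite.restrPushOverAdj O U).homEquiv _ _).symm.injective
  have e1 : ((ModSite.restrPushOverAdj O U).homEquiv _ _).symm
      (φ ≫ (ModSite.restrPushOverAdj O U).unit.app N) = (ModSite.restr O U).map φ := by
    rw [Adjunction.homEquiv_counit, Functor.map_comp, Category.assoc,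
      (ModSite.restrPushOverAdj O U).left_triangle_components, Category.comp_id]
  have e2 : ((ModSite.restrPushOverAdj O U).homEquiv M ((ModSite.restr O U).obj N)).symm 0 = 0 := by
    rw [Adjunction.homEquiv_counit, Functor.map_zero, zero_comp]
  rw [e1, h]
  exact e2.symm

theorem restr_map_eq_zero_of_unit {M N : ModSite.Mod O} (φ : M ⟶ N)
    (h : φ ≫ (ModSite.restrPushOverAdj O U).unit.app N = 0) : (ModSite.restr O U).map φ = 0 := by
  have e1 : ((ModSite.restrPushOverAdj O U).homEquiv _ _).symm
      (φ ≫ (ModSite.restrPushOverAdj O U).unit.app N) = (ModSite.restr O U).map φ := by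
    rw [Adjunction.homEquiv_counit, Functor.map_comp, Category.assoc,
      (ModSite.restrPushOverAdj O U).left_triangle_components, Category.comp_id]
  rw [← e1, h, Adjunction.homEquiv_counit, Functor.map_zero, zero_comp]

/-- `Γ_Z(F)` is null on `U`. -/
theorem isNullOn_sectOn (F : ModSite.Mod O) :
    ModSite.IsNullOn O U ((ModSite.sectOn O U).obj F) := by
  have h : (ModSite.restr O U).map ((ModSite.sectOnι O U).app F) = 0 :=
    restr_map_eq_zero_of_unit O U _ (kernel.condition _)
  have : Mono ((ModSite.sectOnι O U).app F) := mono_sectOnι O U F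
  have hm : Mono ((ModSite.restr O U).map ((ModSite.sectOnι O U).app F)) := inferInstance
  rw [ModSite.IsNullOn, IsZero.iff_id_eq_zero]
  rw [← cancel_mono ((ModSite.restr O U).map ((ModSite.sectOnι O U).app F)), h, comp_zero, comp_zero]

omit [ModSite.HasPushOver O U] in
variable {O U} in
theorem restr_map_eq_zero_of_null_left {A B : ModSite.Mod O} (φ : A ⟶ B)
    (h : ModSite.IsNullOn O U A) : (ModSite.restr O U).map φ = 0 :=
  IsZero.eq_of_src h _ _

omit [ModSite.HasPushOver O U] in
variable {O U} in
theorem restr_map_eq_zero_of_null_right {A B : ModSite.Mod O} (φ : A ⟶ B)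
    (h : ModSite.IsNullOn O U B) : (ModSite.restr O U).map φ = 0 :=
  IsZero.eq_of_tgt h _ _

/-- The adjunction `M ↦ M/M_U ⊣ Γ_Z`. -/
noncomputable def adj : ModSite.quotOn O U ⊣ ModSite.sectOn O U :=
  Adjunction.mkOfHomEquiv
    { homEquiv := fun M N =>
        { toFun := fun f => kernel.lift _ ((ModSite.quotOnπ O U).app M ≫ f)
            (comp_unit_eq_zero O U _ (by
              rw [Functor.map_comp, restr_map_eq_zero_of_null_right ((ModSite.quotOnπ O U).app M)
                (ExtSupp.isNullOn_quotOn O U M), zero_comp]))
          invFun := fun g => cokernel.desc _ (g ≫ (ModSite.sectOnι O U).app N)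
            (counit_comp_eq_zero O U _ (by
              rw [Functor.map_comp, restr_map_eq_zero_of_null_left ((ModSite.sectOnι O U).app N)
                (isNullOn_sectOn O U N), comp_zero]))
          left_inv := fun f => by
            have := epi_quotOnπ O U M
            rw [← cancel_epi ((ModSite.quotOnπ O U).app M)]
            refine (cokernel.π_desc _ _ _).trans ?_
            exact kernel.lift_ι _ _ _
          right_inv := fun g => by
            have := mono_sectOnι O U N
            rw [← cancel_mono ((ModSite.sectOnι O U).app N)]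
            refine (kernel.lift_ι _ _ _).trans ?_
            exact cokernel.π_desc _ _ _ }
      homEquiv_naturality_left_symm := by
        intro M' M N a b
        have := epi_quotOnπ O U M'
        rw [← cancel_epi ((ModSite.quotOnπ O U).app M')]
        refine (cokernel.π_desc _ _ _).trans ?_
        refine (Category.assoc _ _ _).trans ?_
        refine Eq.trans ?_ (Category.assoc _ _ _)
        refine Eq.trans ?_ (congrArg (fun t => t ≫ _) ((ModSite.quotOnπ O U).naturality a))
        refine Eq.trans ?_ (Category.assoc _ _ _).symm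
        exact congrArg (fun t => a ≫ t) (cokernel.π_desc _ _ _).symm
      homEquiv_naturality_right := by
        intro M N N' a b
        have := mono_sectOnι O U N'
        rw [← cancel_mono ((ModSite.sectOnι O U).app N')]
        refine (kernel.lift_ι _ _ _).trans ?_
        refine (Category.assoc _ _ _).symm.trans ?_
        refine Eq.trans ?_ (Category.assoc _ _ _).symm
        refine Eq.trans ?_ (congrArg (fun t => _ ≫ t) ((ModSite.sectOnι O U).naturality b).symm)
        refine Eq.trans ?_ (Category.assoc _ _ _)
        exact congrArg (fun t => t ≫ b) (kernel.lift_ι _ _ _).symm }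

theorem adj_homEquiv_ι {M N : ModSite.Mod O} (f : (ModSite.quotOn O U).obj M ⟶ N) :
    (adj O U).homEquiv M N f ≫ (ModSite.sectOnι O U).app N = (ModSite.quotOnπ O U).app M ≫ f := by
  simp only [adj, Adjunction.mkOfHomEquiv_homEquiv]
  exact kernel.lift_ι _ _ _

theorem π_adj_homEquiv_symm {M N : ModSite.Mod O} (g : M ⟶ (ModSite.sectOn O U).obj N) :
    (ModSite.quotOnπ O U).app M ≫ ((adj O U).homEquiv M N).symm g =
      g ≫ (ModSite.sectOnι O U).app N := by
  simp only [adj, Adjunction.mkOfHomEquiv_homEquiv]
  exact cokernel.π_desc _ _ _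

instance isLeftAdjoint_quotOn : (ModSite.quotOn O U).IsLeftAdjoint := (adj O U).isLeftAdjoint

instance isRightAdjoint_sectOn : (ModSite.sectOn O U).IsRightAdjoint := (adj O U).isRightAdjoint

end K787.QuotSect
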