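import Groth.Agent.ExtSupp.K787.FreeAb
import Groth.Agent.MultSch.K787.SheafExact
import Groth.Agent.CohtopA.TFree

/-!
# The abelian sheaf `ℤ/ℤ_U`, elementwise
-/

set_option autoImplicit false

universe u

open CategoryTheory CategoryTheory.Limits Opposite

namespace K787.QuotZ

open K787.FreeAb

variable {C : Type u} [SmallCategory C] {J : GrothendieckTopology C}

theorem ab_eq_zero_of_locally (F : Sheaf J AddCommGrpCat.{u}) {V : C} (m : F.obj.obj (op V)) (R : Sieve V)
    (hR : R ∈ J V) (h : ∀ ⦃W : C⦄ (g : W ⟶ V), R g → F.obj.map g.op m = 0) : m = 0 := by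
  have hsep : Presheaf.IsSeparated J F.obj := F.property.isSeparated
  refine hsep V R hR m 0 ?_
  intro W g hg
  refine (h g hg).trans ?_
  exact (map_zero (F.obj.map g.op).hom).symm

theorem ab_mono_of {F G : Sheaf J AddCommGrpCat.{u}} (φ : F ⟶ G)
    (h : ∀ (V : C) (m : F.obj.obj (op V)), φ.hom.app (op V) m = 0 → m = 0) : Mono φ := by
  have : ∀ V, Mono (φ.hom.app V) := fun V => by
    rw [AddCommGrpCat.mono_iff_injective]
    exact (injective_iff_map_eq_zero (φ.hom.app V).hom).2 (h (unop V))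
  have : Mono φ.hom := NatTrans.mono_of_mono_app _
  exact (sheafToPresheaf J AddCommGrpCat.{u}).mono_of_mono_map this

theorem ab_exists_of_epi {F G : Sheaf J AddCommGrpCat.{u}} (φ : F ⟶ G) [Epi φ] {V : C} (n : G.obj.obj (op V)) :
    ∃ R ∈ J V, ∀ ⦃W : C⦄ (g : W ⟶ V), R g → ∃ m : F.obj.obj (op W), φ.hom.app (op W) m = G.obj.map g.op n := by
  have hs : Sheaf.IsLocallySurjective φ :=
    (Sheaf.isLocallySurjective_iff_epi' AddCommGrpCat.{u} φ).2 inferInstance
  refine ⟨_, hs.imageSieve_mem (U := V) n, ?_⟩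
  rintro W g ⟨m, hm⟩
  exact ⟨m, hm⟩

variable (J) in
/-- The map `ℤ[U] ⟶ ℤ`. -/
noncomputable abbrev i (U : C) : (ToposFin.freeAb J).obj (ToposFin.eps J U) ⟶ (ToposFin.freeAb J).obj (⊤_ _) :=
  (ToposFin.freeAb J).map (terminal.from (ToposFin.eps J U))

variable (J) in
/-- The map `ℤ ⟶ ℤ/ℤ_U`. -/
noncomputable abbrev p (U : C) : (ToposFin.freeAb J).obj (⊤_ _) ⟶ ToposFin.quotZ (ToposFin.eps J U) :=
  cokernel.π (i J U)

theorem i_comp_p (U : C) : i J U ≫ p J U = 0 := cokernel.condition _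

theorem p_i_apply (U : C) {V : C} (y : ((ToposFin.freeAb J).obj (ToposFin.eps J U)).obj.obj (op V)) :
    (p J U).hom.app (op V) ((i J U).hom.app (op V) y) = 0 :=
  congrArg (fun (t : (ToposFin.freeAb J).obj (ToposFin.eps J U) ⟶ ToposFin.quotZ (ToposFin.eps J U)) =>
    t.hom.app (op V) y) (i_comp_p (J := J) U)

/-- The generator of `ℤ/ℤ_U`. -/
noncomputable def one (U V : C) : (ToposFin.quotZ (ToposFin.eps J U)).obj.obj (op V) :=
  (p J U).hom.app (op V) (gen (⊤_ (ToposFin.Sh J)) default)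

theorem quotZ_null (U : C) {V : C} (r : V ⟶ U) (q : (ToposFin.quotZ (ToposFin.eps J U)).obj.obj (op V)) :
    q = 0 := by
  obtain ⟨R, hR, h⟩ := ab_exists_of_epi (p J U) q
  refine ab_eq_zero_of_locally _ _ R hR fun W g hg => ?_
  obtain ⟨t, ht⟩ := h g hg
  rw [← ht]
  obtain ⟨T, hT, h'⟩ := exists_el _ t
  refine ab_eq_zero_of_locally _ _ T hT fun W' g' hg' => ?_
  obtain ⟨z, hz⟩ := h' g' hg'
  refine (NatTrans.naturality_apply (p J U).hom g'.op t).symm.trans ?_
  refine (congrArg _ hz.symm).trans ?_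
  obtain ⟨x⟩ := nonempty_eps (J := J) ((g' ≫ g) ≫ r)
  have hz' : z = FreeAbelianGroup.map ((terminal.from (ToposFin.eps J U)).hom.app (op W'))
      (FreeAbelianGroup.map (fun _ => x) z) := by
    rw [← FreeAbelianGroup.map_comp_apply]
    refine (FreeAbelianGroup.map_id_apply z).symm.trans ?_
    congr 1
    congr 1
    funext y
    exact Subsingleton.elim _ _
  rw [hz', ← map_el]
  exact p_i_apply U _

/-- Evaluation of morphisms at a section, as an additive map. -/
noncomputable def evHom (F G : Sheaf J AddCommGrpCat.{u}) {V : C} (q : F.obj.obj (op V)) :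
    (F ⟶ G) →+ G.obj.obj (op V) where
  toFun φ := φ.hom.app (op V) q
  map_zero' := rfl
  map_add' _ _ := rfl

theorem nsmul_id_apply (F : Sheaf J AddCommGrpCat.{u}) (n : ℕ) {V : C} (q : F.obj.obj (op V)) :
    (n • 𝟙 F : F ⟶ F).hom.app (op V) q = n • q :=
  map_nsmul (evHom F F q) n (𝟙 F)

theorem tf_quotZ (U : C) : Groth.Agent.CohtopA.TFree.TF (ToposFin.quotZ (ToposFin.eps J U)) := by
  intro n hn
  apply ab_mono_of
  intro V q hq
  rw [nsmul_id_apply] at hq
  obtain ⟨R, hR, h⟩ := ab_exists_of_epi (p J U) q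
  refine ab_eq_zero_of_locally _ _ R hR fun W g hg => ?_
  obtain ⟨t, ht⟩ := h g hg
  rw [← ht]
  have h1 : (p J U).hom.app (op W) (n • t) = 0 := by
    rw [map_nsmul, ht, ← map_nsmul, hq, map_zero]
  have hex : (ShortComplex.mk (i J U) (p J U) (i_comp_p U)).Exact :=
    ShortComplex.exact_of_g_is_cokernel _ (cokernelIsCokernel (i J U))
  refine ab_eq_zero_of_locally _ _ _ (K787.SheafExact.imageSieve_mem _ hex W (n • t) h1) fun W' g' hg' => ?_
  obtain ⟨y, hy⟩ := hg'
  obtain ⟨T, hT, h'⟩ := exists_el _ y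
  refine ab_eq_zero_of_locally _ _ T hT fun W'' g'' hg'' => ?_
  obtain ⟨z, hz⟩ := h' g'' hg''
  by_cases hne : Nonempty ((ToposFin.eps J U).obj.obj (op W''))
  · obtain ⟨x⟩ := hne
    obtain ⟨S, hS, h''⟩ := exists_of_eps U x
    refine ab_eq_zero_of_locally _ _ S hS fun W₃ g₃ hg₃ => ?_
    obtain ⟨r⟩ := h'' g₃ hg₃
    exact quotZ_null U r _
  · have hz0 : z = 0 := by
      have : IsEmpty ((ToposFin.eps J U).obj.obj (op W'')) := not_nonempty_iff.1 hne
      have : Subsingleton (FreeAbelianGroup ((ToposFin.eps J U).obj.obj (op W''))) := inferInstance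
      exact Subsingleton.elim _ _
    have h2 : n • ((ToposFin.freeAb J).obj (⊤_ _)).obj.map g''.op
        (((ToposFin.freeAb J).obj (⊤_ _)).obj.map g'.op t) = 0 := by
      rw [← map_nsmul, ← map_nsmul]
      refine (congrArg _ hy.symm).trans ?_
      refine (NatTrans.naturality_apply (i J U).hom g''.op y).symm.trans ?_
      refine (congrArg _ hz.symm).trans ?_
      rw [hz0, map_zero]
      exact map_zero _
    have h3 := Groth.Agent.CohtopA.TFree.eq_zero_of_tf (Groth.Agent.CohtopA.TFree.tf_sections J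
      (Groth.Agent.CohtopA.TFree.tf_free J (⊤_ (ToposFin.Sh J)).obj) (op W'')) n hn _ h2
    refine (congrArg _ (NatTrans.naturality_apply (p J U).hom g'.op t)).symm.trans ?_
    refine (NatTrans.naturality_apply (p J U).hom g''.op _).symm.trans ?_
    exact (congrArg _ h3).trans (map_zero _)

theorem epi_p (U : C) : Epi (p J U) := inferInstance

theorem hom_ext (U : C) {F : Sheaf J AddCommGrpCat.{u}} {h h' : ToposFin.quotZ (ToposFin.eps J U) ⟶ F}
    (H : ∀ V : C, h.hom.app (op V) (one U V) = h'.hom.app (op V) (one U V)) : h = h' := by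
  rw [← cancel_epi (p J U)]
  apply FreeAb.hom_ext
  intro V x
  obtain rfl : x = default := Subsingleton.elim _ _
  exact H V

theorem map_one (U : C) {V W : C} (g : W ⟶ V) :
    (ToposFin.quotZ (ToposFin.eps J U)).obj.map g.op (one U V) = one U W := by
  refine (NatTrans.naturality_apply (p J U).hom g.op _).symm.trans ?_
  refine (congrArg _ (res_gen (⊤_ (ToposFin.Sh J)) g default)).trans ?_
  exact congrArg (fun x => (p J U).hom.app (op W) (gen (⊤_ (ToposFin.Sh J)) x)) (Subsingleton.elim _ _)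

/-- Morphisms out of `ℤ/ℤ_U`: compatible families of sections which are zero over `U`. -/
theorem exists_desc (U : C) (F : Sheaf J AddCommGrpCat.{u}) (s : ∀ V : C, F.obj.obj (op V))
    (hs : ∀ ⦃V W : C⦄ (g : W ⟶ V), F.obj.map g.op (s V) = s W)
    (h0 : ∀ ⦃V : C⦄ (_ : V ⟶ U), s V = 0) :
    ∃ h : ToposFin.quotZ (ToposFin.eps J U) ⟶ F, ∀ V : C, h.hom.app (op V) (one U V) = s V := by
  obtain ⟨k, hk⟩ := exists_hom (⊤_ (ToposFin.Sh J)) F (fun V _ => s V) (fun V W g _ => (hs g).symm)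
  have hk0 : i J U ≫ k = 0 := by
    apply FreeAb.hom_ext
    intro V x
    refine Eq.trans ?_ (show (0 : F.obj.obj (op V)) = _ from rfl)
    refine (congrArg (fun t => k.hom.app (op V) t) (map_gen (terminal.from (ToposFin.eps J U)) x)).trans ?_
    refine (hk V _).trans ?_
    obtain ⟨R, hR, h⟩ := exists_of_eps U x
    refine ab_eq_zero_of_locally F _ R hR fun W g hg => ?_
    obtain ⟨r⟩ := h g hg
    rw [hs g, h0 r]
  refine ⟨cokernel.desc _ k hk0, fun V => ?_⟩
  have h1 := cokernel.π_desc (i J U) k hk0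
  exact (congrArg (fun (t : (ToposFin.freeAb J).obj (⊤_ _) ⟶ F) =>
    t.hom.app (op V) (gen (⊤_ (ToposFin.Sh J)) default)) h1).trans (hk V _)

end K787.QuotZ
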