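import Groth.Agent.Sga4B.DeltaH
import Mathlib.CategoryTheory.Adjunction.Additive
import Mathlib.CategoryTheory.Preadditive.Yoneda.Limits

/-!
# Right derived functors of `Hom(X, -)` as functors
-/

set_option autoImplicit false

universe v u v' u'

open CategoryTheory CategoryTheory.Limits CategoryTheory.Abelian Opposite
open Groth.Agent.Localalg.DeltaFun Groth.Agent.Sga4B.DeltaH

namespace K787.RDExt

variable {A : Type u} [Category.{v} A] [Abelian A]

/-- `Ext^0(X, -) ≅ Hom(X, -)` as functors. -/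
noncomputable def ext0Iso [HasExt.{v} A] (X : A) :
    extFunctorObj.{v} X 0 ≅ preadditiveCoyoneda.obj (op X) :=
  NatIso.ofComponents (fun Y => AddEquiv.toAddCommGrpIso (Ext.addEquiv₀ (X := X) (Y := Y)))
    (fun {Y Z} f => by
      ext x
      change Ext.addEquiv₀ (x.comp (Ext.mk₀ f) (add_zero 0)) = Ext.addEquiv₀ x ≫ f
      obtain ⟨y, rfl⟩ := Ext.addEquiv₀.symm.surjective x
      apply Ext.addEquiv₀.symm.injective
      rw [AddEquiv.symm_apply_apply, AddEquiv.apply_symm_apply]
      exact Ext.mk₀_comp_mk₀ y f)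

/-- The right derived functors of a functor isomorphic to `Hom(X, -)` are `Ext^q(X, -)`. -/
theorem nonempty_rightDerived_iso [HasExt.{v} A] [EnoughInjectives A] (X : A)
    (F : A ⥤ AddCommGrpCat.{v}) [F.Additive] [PreservesFiniteLimits F]
    (e : F ≅ preadditiveCoyoneda.obj (op X)) (q : ℕ) :
    Nonempty (F.rightDerived q ≅ extFunctorObj.{v} X q) := by
  obtain ⟨E, -, -⟩ := exists_iso (ofRightDerived_effaceable F)
    (ofExt_effaceable X) (F.rightDerivedZeroIsoSelf ≪≫ e ≪≫ (ext0Iso X).symm)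
  exact ⟨E q⟩

variable {B : Type u'} [Category.{v} B] [Abelian B]

/-- `Hom(X, G -) ≅ Hom(L X, -)` for an adjunction `L ⊣ G`. -/
noncomputable def coyoAdjIso {L : A ⥤ B} {G : B ⥤ A} (adj : L ⊣ G) [L.Additive] (X : A) :
    G ⋙ preadditiveCoyoneda.obj (op X) ≅ preadditiveCoyoneda.obj (op (L.obj X)) :=
  NatIso.ofComponents (fun Y => AddEquiv.toAddCommGrpIso (adj.homAddEquiv X Y).symm)
    (fun {Y Z} f => by
      ext x
      exact adj.homEquiv_naturality_right_symm x f)

/-- `Hom(X, -) ≅ Hom(Y, -)` for `X ≅ Y`. -/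
noncomputable def coyoIso {X Y : A} (e : X ≅ Y) :
    preadditiveCoyoneda.obj (op X) ≅ preadditiveCoyoneda.obj (op Y) :=
  preadditiveCoyoneda.mapIso e.op.symm

end K787.RDExt
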