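import Groth.Prelude.Def_ExtSupp
import Groth.Agent.Etbase.ExtCompare
import Groth.Agent.S3087
import Groth.Agent.S0485
import Groth.Agent.Gaga.H976.TM0

/-!
# Exactness of restriction and of extension by zero; Ext groups out of an extension by zero
-/

set_option autoImplicit false

universe w' w u

open CategoryTheory CategoryTheory.Limits Opposite

namespace K787.RestrAb

variable {C : Type u} [SmallCategory C] {J : GrothendieckTopology C} (O : Sheaf J CommRingCat.{u})

theorem hasEnoughInjectives : EnoughInjectives (ModSite.Mod O) :=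
  Groth.Agent.S0485.result J (ModSite.ringSh O)

theorem preservesFiniteLimits_extZero (U : C) : PreservesFiniteLimits (ModSite.extZero O U) :=
  ((Groth.Agent.S3087.result J U (ModSite.ringSh O)).2 (ModSite.extZero O U) (ModSite.extZeroAdj O U)).1

theorem preservesFiniteColimits_extZero (U : C) : PreservesFiniteColimits (ModSite.extZero O U) :=
  ((Groth.Agent.S3087.result J U (ModSite.ringSh O)).2 (ModSite.extZero O U) (ModSite.extZeroAdj O U)).2.1

variable {O}

/-- An epimorphism of modules is locally surjective on sections. -/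
theorem exists_sieve_of_epi {M N : ModSite.Mod O} (f : M ⟶ N) [Epi f] {V : C} (n : ModSite.sect N V) :
    ∃ R ∈ J V, ∀ ⦃W : C⦄ (g : W ⟶ V), R g → ∃ m : ModSite.sect M W, f.val.app (op W) m = N.val.map g.op n := by
  have h := (Groth.Agent.Gaga.H976.TM0.epi_iff_isLocallySurjective f).1 inferInstance
  refine ⟨_, h.imageSieve_mem (U := V) n, ?_⟩
  rintro W g ⟨m, hm⟩
  exact ⟨m, hm⟩

/-- A morphism of modules which is locally surjective on sections is an epimorphism. -/
theorem epi_of_sieve {M N : ModSite.Mod O} (f : M ⟶ N)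
    (h : ∀ (V : C) (n : ModSite.sect N V), ∃ R ∈ J V, ∀ ⦃W : C⦄ (g : W ⟶ V), R g →
      ∃ m : ModSite.sect M W, f.val.app (op W) m = N.val.map g.op n) : Epi f := by
  rw [Groth.Agent.Gaga.H976.TM0.epi_iff_isLocallySurjective f]
  refine ⟨fun {V} n => ?_⟩
  obtain ⟨R, hR, h'⟩ := h V n
  refine J.superset_covering ?_ hR
  intro W g hg
  obtain ⟨m, hm⟩ := h' g hg
  exact ⟨m, hm⟩

/-- Restriction preserves epimorphisms. -/
instance preservesEpi_restr (U : C) : (ModSite.restr O U).PreservesEpimorphisms where
  preserves {M N} f _ := by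
    apply epi_of_sieve
    intro V n
    obtain ⟨R, hR, h⟩ := exists_sieve_of_epi f (V := V.left) n
    refine ⟨(Sieve.overEquiv V).symm R, J.overEquiv_symm_mem_over _ _ hR, ?_⟩
    intro W g hg
    exact h g.left ((Sieve.overEquiv_symm_iff R g).1 hg)

/-- `Ext(A, N|_U) ≃ Ext(j_! A, N)`. -/
theorem nonempty_ext_extZero (U : C) [HasExt.{w} (ModSite.Mod O)] [HasExt.{w'} (ModSite.Mod (O.over U))]
    (A : ModSite.Mod (O.over U)) (N : ModSite.Mod O) (n : ℕ) :
    Nonempty (Abelian.Ext.{w'} A ((ModSite.restr O U).obj N) n ≃+ Abelian.Ext.{w} ((ModSite.extZero O U).obj A) N n) := by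
  have h1 := preservesFiniteLimits_extZero O U
  have h2 := preservesFiniteColimits_extZero O U
  have h3 : (ModSite.extZero O U).Additive := (ModSite.extZeroAdj O U).left_adjoint_additive
  have h4 := hasEnoughInjectives O
  refine ⟨AddEquiv.ofBijective _ (Groth.Agent.Etbase.ExtCompare.cmp_counit_bijective.{w', w}
    (ModSite.extZero O U) (ModSite.extZeroAdj O U) A (fun _ => True) ?_ n N trivial)⟩
  intro F _
  refine ⟨Injective.under F, cokernel (Injective.ι F), Injective.ι F, cokernel.π _, cokernel.condition _, ?_,
    inferInstance, inferInstance, trivial⟩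
  exact { exact := ShortComplex.exact_of_g_is_cokernel _ (cokernelIsCokernel _)
          mono_f := by dsimp; infer_instance
          epi_g := by dsimp; infer_instance }

end K787.RestrAb
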