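import Groth.Agent.S11918
import Groth.Agent.EtDesc.K224.SpAbut
import Mathlib.Algebra.Category.Grp.Zero

/-!
# Composite functor spectral sequence with prescribed values in abelian groups
-/

set_option autoImplicit false

universe v

open CategoryTheory CategoryTheory.Limits
open scoped ZeroObject

namespace K787.SSFinal

theorem isZero_punit : IsZero (AddCommGrpCat.of PUnit.{v + 1}) :=
  AddCommGrpCat.isZero_of_subsingleton _

/-- The composite functor spectral sequence, with given groups in place of the derived functors. -/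
theorem exists_of_comp {A B : Type (v + 1)} [Category.{v} A] [Category.{v} B] [Abelian A] [Abelian B]
    [HasInjectiveResolutions A] [HasInjectiveResolutions B]
    (T : A ⥤ B) [T.Additive] (S : B ⥤ AddCommGrpCat.{v}) [S.Additive] [PreservesFiniteLimits S]
    (hT : ∀ Q : A, Injective Q → ∀ q : ℕ, 0 < q → IsZero ((S.rightDerived q).obj (T.obj Q))) (N : A)
    (H : ℕ → AddCommGrpCat.{v}) (hH : ∀ n, Nonempty (((T ⋙ S).rightDerived n).obj N ≅ H n))
    (D : ℕ → ℕ → AddCommGrpCat.{v})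
    (hD : ∀ p q, Nonempty ((S.rightDerived p).obj ((T.rightDerived q).obj N) ≅ D p q)) :
    ∃ (E : E₂CohomologicalSpectralSequence AddCommGrpCat.{v})
      (a : SpSeq.Abutment E (fun n : ℤ => if 0 ≤ n then H n.toNat else AddCommGrpCat.of PUnit.{v + 1})),
      (∀ n, a.IsFinite n) ∧ SpSeq.IsBounded E ∧
      ∀ p q : ℤ, Nonempty ((E.page 2 le_rfl).X (p, q) ≅
        (if 0 ≤ p ∧ 0 ≤ q then D p.toNat q.toNat else AddCommGrpCat.of PUnit.{v + 1})) := by
  obtain ⟨E, a, ha, hb, hE⟩ := Groth.Agent.S11918.result T S hT N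
  have hiso : ∀ n : ℤ, Nonempty ((if 0 ≤ n then ((T ⋙ S).rightDerived n.toNat).obj N else 0) ≅
      (if 0 ≤ n then H n.toNat else AddCommGrpCat.of PUnit.{v + 1})) := by
    intro n
    by_cases hn : 0 ≤ n
    · rw [if_pos hn, if_pos hn]
      exact hH _
    · rw [if_neg hn, if_neg hn]
      exact ⟨(isZero_zero _).iso isZero_punit⟩
  obtain ⟨a', ha'⟩ := K224.SpAbut.exists_abutment_iso a ha hiso
  refine ⟨E, a', ha', hb, fun p q => ?_⟩
  obtain ⟨e⟩ := hE p q
  by_cases hpq : 0 ≤ p ∧ 0 ≤ q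
  · rw [if_pos hpq] at e ⊢
    obtain ⟨f⟩ := hD p.toNat q.toNat
    exact ⟨e ≪≫ f⟩
  · rw [if_neg hpq] at e ⊢
    exact ⟨e ≪≫ (isZero_zero _).iso isZero_punit⟩

end K787.SSFinal
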