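import Groth.Prelude.Def_ExtSupp
import Groth.Agent.ExtSupp.K787.RestrAb

/-!
# Sections of sheaves of modules on a ringed site: restriction and evaluation as additive maps
-/

set_option autoImplicit false

universe u

open CategoryTheory CategoryTheory.Limits Opposite

namespace K787.Sections

variable {C : Type u} [SmallCategory C] {J : GrothendieckTopology C} {O : Sheaf J CommRingCat.{u}}

/-- Restriction of sections. -/
noncomputable def rs (M : ModSite.Mod O) {V W : C} (g : W ⟶ V) : ModSite.sect M V →+ ModSite.sect M W :=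
  AddMonoidHom.mk' (fun m => M.val.map g.op m) (fun a b => map_add (M.val.map g.op).hom a b)

/-- Evaluation of a morphism on sections. -/
noncomputable def ev {M N : ModSite.Mod O} (φ : M ⟶ N) (V : C) : ModSite.sect M V →+ ModSite.sect N V :=
  AddMonoidHom.mk' (fun m => φ.val.app (op V) m) (fun a b => map_add (φ.val.app (op V)).hom a b)

theorem ev_rs {M N : ModSite.Mod O} (φ : M ⟶ N) {V W : C} (g : W ⟶ V) (m : ModSite.sect M V) :
    ev φ W (rs M g m) = rs N g (ev φ V m) :=
  PresheafOfModules.naturality_apply φ.val g.op m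

theorem rs_rs (M : ModSite.Mod O) {V W W' : C} (g : W ⟶ V) (g' : W' ⟶ W) (m : ModSite.sect M V) :
    rs M g' (rs M g m) = rs M (g' ≫ g) m :=
  (PresheafOfModules.map_comp_apply M.val g.op g'.op m).symm

theorem rs_id (M : ModSite.Mod O) {V : C} (m : ModSite.sect M V) : rs M (𝟙 V) m = m := by
  have := M.val.map_id (op V)
  exact congrArg (fun t => t.hom m) this

theorem ev_comp {M N P : ModSite.Mod O} (φ : M ⟶ N) (ψ : N ⟶ P) (V : C) (m : ModSite.sect M V) :
    ev (φ ≫ ψ) V m = ev ψ V (ev φ V m) := rfl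

theorem ev_id (M : ModSite.Mod O) (V : C) (m : ModSite.sect M V) : ev (𝟙 M) V m = m := rfl

theorem ev_zero (M N : ModSite.Mod O) (V : C) (m : ModSite.sect M V) : ev (0 : M ⟶ N) V m = 0 := rfl

theorem ev_add {M N : ModSite.Mod O} (φ ψ : M ⟶ N) (V : C) (m : ModSite.sect M V) :
    ev (φ + ψ) V m = ev φ V m + ev ψ V m := rfl

theorem ev_smul {M N : ModSite.Mod O} (φ : M ⟶ N) (V : C) (r : O.obj.obj (op V)) (m : ModSite.sect M V) :
    ev φ V (r • m) = r • ev φ V m :=
  (φ.val.app (op V)).hom.map_smul r m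

theorem rs_smul (M : ModSite.Mod O) {V W : C} (g : W ⟶ V) (r : O.obj.obj (op V)) (m : ModSite.sect M V) :
    rs M g (r • m) = (O.obj.map g.op).hom r • rs M g m :=
  M.val.map_smul g.op r m

theorem hom_ext {M N : ModSite.Mod O} {φ ψ : M ⟶ N} (h : ∀ (V : C) (m : ModSite.sect M V), ev φ V m = ev ψ V m) :
    φ = ψ := by
  apply (SheafOfModules.toSheaf _).map_injective
  ext V m
  exact h (unop V) m

theorem mono_iff {M N : ModSite.Mod O} (φ : M ⟶ N) :
    Mono φ ↔ ∀ (V : C) (m : ModSite.sect M V), ev φ V m = 0 → m = 0 := by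
  rw [Groth.Agent.Gaga.H976.TM0.mono_iff]
  constructor
  · intro h V
    exact (injective_iff_map_eq_zero (ev φ V)).1 (h (op V))
  · intro h V
    exact (injective_iff_map_eq_zero (ev φ (unop V))).2 (h (unop V))

theorem exists_of_epi {M N : ModSite.Mod O} (φ : M ⟶ N) [Epi φ] {V : C} (n : ModSite.sect N V) :
    ∃ R ∈ J V, ∀ ⦃W : C⦄ (g : W ⟶ V), R g → ∃ m : ModSite.sect M W, ev φ W m = rs N g n :=
  RestrAb.exists_sieve_of_epi φ n

theorem epi_of_exists {M N : ModSite.Mod O} (φ : M ⟶ N)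
    (h : ∀ (V : C) (n : ModSite.sect N V), ∃ R ∈ J V, ∀ ⦃W : C⦄ (g : W ⟶ V), R g →
      ∃ m : ModSite.sect M W, ev φ W m = rs N g n) : Epi φ :=
  RestrAb.epi_of_sieve φ h

theorem exists_kernel {M N : ModSite.Mod O} (φ : M ⟶ N) {V : C} (m : ModSite.sect M V) (hm : ev φ V m = 0) :
    ∃ k : ModSite.sect (kernel φ) V, ev (kernel.ι φ) V k = m :=
  Groth.Agent.Gaga.H976.TM0.exists_kernel φ (op V) m hm

/-- Exactness of a sequence of modules on sections. -/
theorem exact_locally (S : ShortComplex (ModSite.Mod O)) (hS : S.Exact) {V : C} (m : ModSite.sect S.X₂ V)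
    (hm : ev S.g V m = 0) :
    ∃ R ∈ J V, ∀ ⦃W : C⦄ (g : W ⟶ V), R g →
      ∃ y : ModSite.sect S.X₁ W, ev S.f W y = rs S.X₂ g m := by
  obtain ⟨k, hk⟩ := exists_kernel S.g m hm
  have : Epi (kernel.lift S.g S.f S.zero) := (ShortComplex.exact_iff_epi_kernel_lift S).1 hS
  obtain ⟨R, hR, h⟩ := exists_of_epi (kernel.lift S.g S.f S.zero) k
  refine ⟨R, hR, fun W g hg => ?_⟩
  obtain ⟨y, hy⟩ := h g hg
  refine ⟨y, ?_⟩
  rw [← hk, ← ev_rs, ← hy, ← ev_comp, kernel.lift_ι]

/-- A section which is zero on a covering sieve is zero. -/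
theorem eq_zero_of_locally (M : ModSite.Mod O) {V : C} (m : ModSite.sect M V) (R : Sieve V) (hR : R ∈ J V)
    (h : ∀ ⦃W : C⦄ (g : W ⟶ V), R g → rs M g m = 0) : m = 0 := by
  have hsep : Presheaf.IsSeparated J M.val.presheaf := M.isSheaf.isSeparated
  refine hsep V R hR m 0 ?_
  intro W g hg
  refine (h g hg).trans ?_
  exact (map_zero (M.val.map g.op).hom).symm

theorem eq_of_locally (M : ModSite.Mod O) {V : C} (m n : ModSite.sect M V) (R : Sieve V) (hR : R ∈ J V)
    (h : ∀ ⦃W : C⦄ (g : W ⟶ V), R g → rs M g m = rs M g n) : m = n := by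
  rw [← sub_eq_zero]
  refine eq_zero_of_locally M _ R hR fun W g hg => ?_
  rw [map_sub, h g hg, sub_self]

theorem isNullOn_iff (U : C) (F : ModSite.Mod O) :
    ModSite.IsNullOn O U F ↔ ∀ ⦃V : C⦄ (_ : V ⟶ U) (x : ModSite.sect F V), x = 0 :=
  ExtSupp.isNullOn_iff O U F

theorem isZero_iff (F : ModSite.Mod O) :
    IsZero F ↔ ∀ (V : C) (x : ModSite.sect F V), x = 0 := by
  constructor
  · intro h V x
    have h1 := (IsZero.iff_id_eq_zero _).mp h
    exact congrArg (fun (ψ : F ⟶ F) => ev ψ V x) h1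
  · intro h
    rw [IsZero.iff_id_eq_zero]
    exact hom_ext fun V m => (h V _).trans (h V _).symm

end K787.Sections
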