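import Groth.Agent.ExtSupp.K787.QuotSect
import Groth.Agent.ExtSupp.K787.Sections

/-!
# Sections of an extension by zero and exactness of `M ↦ M/M_U`
-/

set_option autoImplicit false

universe u

open CategoryTheory CategoryTheory.Limits Opposite

namespace K787.Support

variable {C : Type u} [SmallCategory C] {J : GrothendieckTopology C}

open Groth.Agent.Sga4A.ModShriek in
/-- A section of the explicit model of `j_{U!} M` is locally zero or defined over an object mapping to `U`. -/
theorem model_supp (U : C) (R : Sheaf J RingCat.{u}) (M : SheafOfModules.{u} (R.over U)) {V : C}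
    (y : ((Groth.Agent.S3087.model J U R).obj M).val.obj (op V)) :
    ∃ S ∈ J V, ∀ ⦃W : C⦄ (g : W ⟶ V), S g →
      ((Groth.Agent.S3087.model J U R).obj M).val.map g.op y = 0 ∨ Nonempty (W ⟶ U) := by
  refine ⟨_, Presheaf.imageSieve_mem J (toSheafify J (sh M.val).presheaf) (U := op V) y, ?_⟩
  rintro W g ⟨z, hz⟩
  by_cases h : Nonempty (W ⟶ U)
  · exact Or.inr h
  · left
    have hz0 : z = 0 := by
      change shObj M.val (op W) at z
      refine DFinsupp.ext fun f => ?_
      exact (h ⟨f⟩).elim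
    refine hz.symm.trans ?_
    rw [hz0]
    exact map_zero ((toSheafify J (sh M.val).presheaf).app (op W)).hom

theorem supp_aux (U : C) (R : Sheaf J RingCat.{u})
    {L : SheafOfModules.{u} (R.over U) ⥤ SheafOfModules.{u} R}
    (adjL : L ⊣ SheafOfModules.overFunctor.{u} R U) (M : SheafOfModules.{u} (R.over U)) {V : C}
    (y : (L.obj M).val.obj (op V)) :
    ∃ S ∈ J V, ∀ ⦃W : C⦄ (g : W ⟶ V), S g →
      (L.obj M).val.map g.op y = 0 ∨ Nonempty (W ⟶ U) := by
  let e := (Groth.Agent.S3087.isoModel adjL).app M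
  obtain ⟨S, hS, h⟩ := model_supp U R M (e.hom.val.app (op V) y)
  refine ⟨S, hS, fun W g hg => ?_⟩
  refine (h g hg).imp_left fun h0 => ?_
  have h1 : e.hom.val.app (op W) ((L.obj M).val.map g.op y) = 0 := by
    rw [PresheafOfModules.naturality_apply]
    exact h0
  have h2 := congrArg (fun t => e.inv.val.app (op W) t) h1
  have h3 : e.inv.val.app (op W) (e.hom.val.app (op W) ((L.obj M).val.map g.op y)) =
      (L.obj M).val.map g.op y := by
    have := e.hom_inv_id
    exact congrArg (fun (t : L.obj M ⟶ L.obj M) => t.val.app (op W) ((L.obj M).val.map g.op y)) this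
  exact h3.symm.trans (h2.trans (map_zero _))

variable {O : Sheaf J CommRingCat.{u}} (U : C)

open Sections

/-- A section of `j_{U!} A` is locally zero or defined over an object mapping to `U`. -/
theorem extZero_supp (A : ModSite.Mod (O.over U)) {V : C}
    (y : ModSite.sect ((ModSite.extZero O U).obj A) V) :
    ∃ R ∈ J V, ∀ ⦃W : C⦄ (g : W ⟶ V), R g →
      rs ((ModSite.extZero O U).obj A) g y = 0 ∨ Nonempty (W ⟶ U) :=
  supp_aux U (ModSite.ringSh O) (ModSite.extZeroAdj O U) A y

/-- Over an object mapping to `U` every section of `M` comes from `M_U`. -/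
theorem exists_counit {W : C} (r : W ⟶ U) (M : ModSite.Mod O) (m : ModSite.sect M W) :
    ∃ y : ModSite.sect (ExtSupp.openMod U M) W, ev ((ModSite.extZeroAdj O U).counit.app M) W y = m :=
  ⟨((ModSite.extZeroAdj O U).unit.app ((ModSite.restr O U).obj M)).val.app (op (Over.mk r)) m,
    congrArg (fun (t : (ModSite.restr O U).obj M ⟶ (ModSite.restr O U).obj M) =>
      t.val.app (op (Over.mk r)) m) ((ModSite.extZeroAdj O U).right_triangle_components M)⟩

/-- A section of `M` in the image of `M_U` is locally zero or defined over an object mapping to `U`. -/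
theorem locally_of_counit (M : ModSite.Mod O) {V : C} (y : ModSite.sect (ExtSupp.openMod U M) V) :
    ∃ R ∈ J V, ∀ ⦃W : C⦄ (g : W ⟶ V), R g →
      rs M g (ev ((ModSite.extZeroAdj O U).counit.app M) V y) = 0 ∨ Nonempty (W ⟶ U) := by
  obtain ⟨R, hR, h⟩ := extZero_supp U _ y
  refine ⟨R, hR, fun W g hg => (h g hg).imp_left fun h0 => ?_⟩
  refine (ev_rs _ _ _).symm.trans ?_
  exact (congrArg _ h0).trans (map_zero _)

/-- Bind for sections which are locally zero or over `U`. -/
theorem locally_bind (M : ModSite.Mod O) {V : C} (m : ModSite.sect M V) (R : Sieve V) (hR : R ∈ J V)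
    (h : ∀ ⦃W : C⦄ (g : W ⟶ V), R g → ∃ T ∈ J W, ∀ ⦃W' : C⦄ (g' : W' ⟶ W), T g' →
      rs M (g' ≫ g) m = 0 ∨ Nonempty (W' ⟶ U)) :
    ∃ R ∈ J V, ∀ ⦃W : C⦄ (g : W ⟶ V), R g → rs M g m = 0 ∨ Nonempty (W ⟶ U) := by
  have h2 : ∀ (W : C) (g : W ⟶ V), R g → ∃ T ∈ J W, ∀ ⦃W' : C⦄ (g' : W' ⟶ W), T g' →
      rs M (g' ≫ g) m = 0 ∨ Nonempty (W' ⟶ U) := fun W g hg => h g hg
  choose! T hT hT' using h2
  refine ⟨Sieve.bind R.arrows (fun W g _ => T W g), J.bind_covering hR (fun W g hg => hT W g hg), ?_⟩
  rintro W' _ ⟨W, g', g, hg, hg', rfl⟩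
  exact hT' W g hg g' hg'

/-- A section of `M` killed in `M/M_U` is locally zero or defined over an object mapping to `U`. -/
theorem locally_of_π_eq_zero (M : ModSite.Mod O) {V : C} (m : ModSite.sect M V)
    (hm : ev ((ModSite.quotOnπ O U).app M) V m = 0) :
    ∃ R ∈ J V, ∀ ⦃W : C⦄ (g : W ⟶ V), R g → rs M g m = 0 ∨ Nonempty (W ⟶ U) := by
  obtain ⟨R, hR, h⟩ := exact_locally (ExtSupp.openSeq U M) (ExtSupp.openSeq_exact U M).1 m hm
  refine locally_bind U M m R hR fun W g hg => ?_
  obtain ⟨y, hy⟩ := h g hg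
  obtain ⟨T, hT, h'⟩ := locally_of_counit U M y
  refine ⟨T, hT, fun W' g' hg' => (h' g' hg').imp_left fun h0 => ?_⟩
  rw [← rs_rs]
  exact (congrArg _ hy.symm).trans h0

/-- A section of `M` which is locally zero or defined over an object mapping to `U` dies in `M/M_U`. -/
theorem π_eq_zero_of_locally [ModSite.HasPushOver O U] (M : ModSite.Mod O) {V : C} (m : ModSite.sect M V)
    (R : Sieve V) (hR : R ∈ J V)
    (h : ∀ ⦃W : C⦄ (g : W ⟶ V), R g → rs M g m = 0 ∨ Nonempty (W ⟶ U)) :
    ev ((ModSite.quotOnπ O U).app M) V m = 0 := by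
  refine eq_zero_of_locally _ _ R hR fun W g hg => ?_
  refine (ev_rs _ _ _).symm.trans ?_
  rcases h g hg with h0 | ⟨⟨r⟩⟩
  · refine (congrArg _ h0).trans ?_
    exact map_zero _
  · exact (ExtSupp.isNullOn_iff O U _).1 (ExtSupp.isNullOn_quotOn O U M) r _

/-- `M ↦ M/M_U` preserves monomorphisms. -/
instance preservesMono_quotOn [ModSite.HasPushOver O U] : (ModSite.quotOn O U).PreservesMonomorphisms where
  preserves {M N} f hf := by
    rw [mono_iff] at hf ⊢
    intro V s hs
    have := QuotSect.epi_quotOnπ O U M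
    obtain ⟨R, hR, h⟩ := exists_of_epi ((ModSite.quotOnπ O U).app M) s
    refine eq_zero_of_locally _ _ R hR fun W g hg => ?_
    obtain ⟨m, hm⟩ := h g hg
    have nat : ∀ (W : C) (m : ModSite.sect M W), ev ((ModSite.quotOnπ O U).app N) W (ev f W m) =
        ev ((ModSite.quotOn O U).map f) W (ev ((ModSite.quotOnπ O U).app M) W m) := fun W m =>
      congrArg (fun (t : M ⟶ (ModSite.quotOn O U).obj N) => ev t W m) ((ModSite.quotOnπ O U).naturality f)
    rw [← hm]
    have h1 : ev ((ModSite.quotOnπ O U).app N) W (ev f W m) = 0 := by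
      rw [nat, hm, ev_rs, hs, map_zero]
    obtain ⟨T, hT, h2⟩ := locally_of_π_eq_zero U N _ h1
    refine π_eq_zero_of_locally U M m T hT fun W' g' hg' => ?_
    refine (h2 g' hg').imp_left fun h3 => ?_
    rw [← ev_rs] at h3
    exact hf W' _ h3

/-- `Γ_Z` preserves injectives. -/
theorem injective_sectOn [ModSite.HasPushOver O U] (I : ModSite.Mod O) [Injective I] :
    Injective ((ModSite.sectOn O U).obj I) :=
  Injective.injective_of_adjoint (QuotSect.adj O U) I

instance preservesInj_sectOn [ModSite.HasPushOver O U] : (ModSite.sectOn O U).PreservesInjectiveObjects where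
  injective_obj := fun {I} _ => injective_sectOn U I

end K787.Support
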