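import Groth.Agent.ModSite.K291.Shriek
import Groth.Agent.ExtSupp.K787.Support

/-!
# Extension by zero along a subterminal object: the unit is an isomorphism, the counit is a monomorphism
-/

set_option autoImplicit false

universe u

open CategoryTheory CategoryTheory.Limits Opposite

namespace K787.Subterminal

open K787.Sections K291.Mon K291.Shriek K291.Restr
open Groth.Agent.Sga4A

variable {C : Type u} [SmallCategory C] {J : GrothendieckTopology C} {O : Sheaf J CommRingCat.{u}}
  (V : C) (hV : ∀ X : C, Subsingleton (X ⟶ V))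

include hV in
theorem of_bijective (P : PM (O.over V)) (Y : (Over V)ᵒᵖ) :
    Function.Bijective (ModShriek.of (R := O.obj ⋙ forget₂ CommRingCat.{u} RingCat.{u}) P
      (op Y.unop.left) Y.unop.hom) := by
  classical
  refine ⟨ModShriek.of_injective (R := O.obj ⋙ forget₂ CommRingCat.{u} RingCat.{u}) P _ _, fun x => ?_⟩
  refine ⟨x Y.unop.hom, ?_⟩
  refine DFinsupp.ext fun f => ?_
  obtain rfl : f = Y.unop.hom := (hV _).elim _ _
  exact ModShriek.of_apply_same _ _ _ _

include hV in
theorem isIso_preAdj_unit (P : PM (O.over V)) : IsIso ((preAdj O V).unit.app P) := by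
  have h : ∀ Y : (Over V)ᵒᵖ, IsIso (((PresheafOfModules.toPresheaf.{u} _).map ((preAdj O V).unit.app P)).app Y) := by
    intro Y
    rw [ConcreteCategory.isIso_iff_bijective]
    exact of_bijective V hV P Y
  have h2 : IsIso ((PresheafOfModules.toPresheaf.{u} _).map ((preAdj O V).unit.app P)) :=
    NatIso.isIso_of_isIso_app _
  exact isIso_of_reflects_iso _ (PresheafOfModules.toPresheaf.{u} _)

include hV in
/-- The unit `A ⟶ (j_{V!} A)|_V` is an isomorphism for `V` subterminal. -/
theorem isIso_unit_shP (P : PM (O.over V)) : IsIso ((ModSite.extZeroAdj O V).unit.app ((shP (O.over V)).obj P)) := by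
  let adj1 := (shAdj (O.over V)).comp (ModSite.extZeroAdj O V)
  let adj2 := ((preAdj O V).comp (shAdj O)).ofNatIsoRight (restrToP O V)
  have h1 : adj1.unit.app P ≫ (ModSite.restr O V ⋙ toP (O.over V)).map ((shShriek O V).hom.app P) =
      adj2.unit.app P := Adjunction.unit_leftAdjointUniq_hom_app adj1 adj2 P
  let a : P ⟶ (preR O V).obj ((preS O V).obj P) := (preAdj O V).unit.app P
  let b : (preR O V).obj ((preS O V).obj P) ⟶ (preR O V).obj ((toP O).obj ((shP O).obj ((preS O V).obj P))) :=
    (preR O V).map ((shAdj O).unit.app ((preS O V).obj P))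
  have h2 : adj2.unit.app P = a ≫ b := by
    have e1 : adj2.unit.app P = adj2.homEquiv _ _ (𝟙 _) := (adj2.homEquiv_id P).symm
    have e2 : adj2.homEquiv P ((preS O V ⋙ shP O).obj P) (𝟙 _) =
        ((preAdj O V).comp (shAdj O)).homEquiv _ _ (𝟙 _) ≫ (restrToP O V).hom.app _ :=
      Adjunction.homEquiv_ofNatIsoRight_apply _ _ _
    have e3 : ((preAdj O V).comp (shAdj O)).homEquiv P ((preS O V ⋙ shP O).obj P) (𝟙 _) = a ≫ b :=
      (((preAdj O V).comp (shAdj O)).homEquiv_id P).trans (Adjunction.comp_unit_app _ _ _)
    refine e1.trans (e2.trans ?_)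
    rw [e3]
    exact Category.comp_id _
  have h3 : IsIso ((shP (O.over V)).map (a ≫ b)) := by
    rw [Functor.map_comp]
    have : IsIso a := isIso_preAdj_unit V hV P
    have : IsIso ((shP (O.over V)).map b) := (WO_iff (O.over V) _).1 (WO_preR V (WO_unit O ((preS O V).obj P)))
    infer_instance
  have h3 : IsIso ((shP (O.over V)).map (adj2.unit.app P)) := by
    rw [h2]
    exact h3
  have h4 : IsIso ((shP (O.over V)).map (adj1.unit.app P)) := by
    rw [← h1, Functor.map_comp] at h3
    exact IsIso.of_isIso_comp_right _ ((shP (O.over V)).map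
      ((ModSite.restr O V ⋙ toP (O.over V)).map ((shShriek O V).hom.app P)))
  have h5 : adj1.unit.app P = (shAdj (O.over V)).unit.app P ≫
      (toP (O.over V)).map ((ModSite.extZeroAdj O V).unit.app ((shP (O.over V)).obj P)) :=
    Adjunction.comp_unit_app _ _ _
  rw [h5, Functor.map_comp] at h4
  have h6 := (WO_iff (O.over V) _).1 (WO_unit (O.over V) P)
  have h7 : IsIso ((shP (O.over V)).map
      ((toP (O.over V)).map ((ModSite.extZeroAdj O V).unit.app ((shP (O.over V)).obj P)))) :=
    IsIso.of_isIso_comp_left ((shP (O.over V)).map ((shAdj (O.over V)).unit.app P)) _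
  exact (NatIso.isIso_map_iff (toShIso (O.over V)) _).1 h7

include hV in
theorem isIso_unit (A : ModSite.Mod (O.over V)) : IsIso ((ModSite.extZeroAdj O V).unit.app A) := by
  have h := isIso_unit_shP V hV ((toP (O.over V)).obj A)
  let e := (toShIso (O.over V)).app A
  have n := (ModSite.extZeroAdj O V).unit.naturality e.hom
  have h1 : IsIso (e.hom ≫ (ModSite.extZeroAdj O V).unit.app A) := by
    have h3 : IsIso ((ModSite.extZeroAdj O V).unit.app ((toP (O.over V) ⋙ shP (O.over V)).obj A)) := h
    have h2 : IsIso ((ModSite.extZeroAdj O V).unit.app ((toP (O.over V) ⋙ shP (O.over V)).obj A) ≫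
        (ModSite.extZero O V ⋙ ModSite.restr O V).map e.hom) := inferInstance
    rw [← n] at h2
    exact h2
  exact IsIso.of_isIso_comp_left e.hom _

include hV in
theorem isIso_restr_counit (F : ModSite.Mod O) :
    IsIso ((ModSite.restr O V).map ((ModSite.extZeroAdj O V).counit.app F)) := by
  have h := isIso_unit V hV ((ModSite.restr O V).obj F)
  have h1 := (ModSite.extZeroAdj O V).right_triangle_components F
  have h2 : IsIso ((ModSite.extZeroAdj O V).unit.app ((ModSite.restr O V).obj F) ≫
      (ModSite.restr O V).map ((ModSite.extZeroAdj O V).counit.app F)) := by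
    rw [h1]; infer_instance
  exact IsIso.of_isIso_comp_left ((ModSite.extZeroAdj O V).unit.app ((ModSite.restr O V).obj F)) _

include hV in
/-- Over an object mapping to `V`, the counit is injective on sections. -/
theorem counit_injective (F : ModSite.Mod O) {T : C} (r : T ⟶ V)
    (y : ModSite.sect (ExtSupp.openMod V F) T)
    (hy : ev ((ModSite.extZeroAdj O V).counit.app F) T y = 0) : y = 0 := by
  have h := isIso_restr_counit V hV F
  have h1 : Mono ((ModSite.restr O V).map ((ModSite.extZeroAdj O V).counit.app F)) := inferInstance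
  rw [mono_iff] at h1
  exact h1 (Over.mk r) y hy

include hV in
/-- `F_V ⟶ F` is a monomorphism for `V` subterminal. -/
theorem mono_counit (F : ModSite.Mod O) : Mono ((ModSite.extZeroAdj O V).counit.app F) := by
  rw [mono_iff]
  intro T y hy
  obtain ⟨R, hR, h⟩ := Support.extZero_supp V _ y
  refine eq_zero_of_locally _ _ R hR fun W g hg => ?_
  rcases h g hg with h0 | ⟨⟨r⟩⟩
  · exact h0
  · refine counit_injective V hV F r _ ?_
    refine (ev_rs _ _ _).trans ?_
    rw [hy, map_zero]

end K787.Subterminal
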