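import Groth.Agent.ExtSupp.K787.Support
import Groth.Agent.ModSite.K291.Mon

/-!
# Local sections of a tensor product of sheaves of modules
-/

set_option autoImplicit false

universe u

open CategoryTheory CategoryTheory.Limits Opposite MonoidalCategory
open scoped TensorProduct

namespace K787.TensSec

open K787.Sections K291.Mon

variable {C : Type u} [SmallCategory C] {J : GrothendieckTopology C} {O : Sheaf J CommRingCat.{u}}

/-- The tensor product of the modules of sections. -/
abbrev PT (M N : ModSite.Mod O) (V : C) : Type u :=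
  TensorProduct (O.obj.obj (op V)) (M.val.obj (op V)) (N.val.obj (op V))

/-- Restriction of elements of the tensor product of modules of sections. -/
noncomputable def pr (M N : ModSite.Mod O) {V W : C} (g : W ⟶ V) : PT M N V →+ PT M N W :=
  AddMonoidHom.mk' (fun z => ((toP O).obj M ⊗ (toP O).obj N).map g.op z)
    (fun a b => map_add (((toP O).obj M ⊗ (toP O).obj N).map g.op).hom a b)

theorem pr_tmul (M N : ModSite.Mod O) {V W : C} (g : W ⟶ V) (m : ModSite.sect M V) (n : ModSite.sect N V) :
    pr M N g (m ⊗ₜ[O.obj.obj (op V)] n) = rs M g m ⊗ₜ[O.obj.obj (op W)] rs N g n := rfl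

/-- The map from the tensor product of modules of sections to sections of the tensor product. -/
noncomputable def tp (M N : ModSite.Mod O) (V : C) :
    PT M N V →+ ModSite.sect (((ModSite.tensorBi O).obj M).obj N) V :=
  AddMonoidHom.mk' (fun z => ((shAdj O).unit.app ((toP O).obj M ⊗ (toP O).obj N)).app (op V) z)
    (fun a b => map_add (((shAdj O).unit.app ((toP O).obj M ⊗ (toP O).obj N)).app (op V)).hom a b)

theorem rs_tp (M N : ModSite.Mod O) {V W : C} (g : W ⟶ V) (z : PT M N V) :
    rs _ g (tp M N V z) = tp M N W (pr M N g z) :=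
  (PresheafOfModules.naturality_apply
    ((shAdj O).unit.app ((toP O).obj M ⊗ (toP O).obj N)) g.op z).symm

/-- Sections of the tensor product are locally given by elements of the tensor product of the modules of sections. -/
theorem exists_tp (M N : ModSite.Mod O) {V : C} (t : ModSite.sect (((ModSite.tensorBi O).obj M).obj N) V) :
    ∃ R ∈ J V, ∀ ⦃W : C⦄ (g : W ⟶ V), R g → ∃ z : PT M N W, tp M N W z = rs _ g t := by
  refine ⟨_, Presheaf.imageSieve_mem J
    (toSheafify J ((toP O).obj M ⊗ (toP O).obj N).presheaf) (U := op V) t, ?_⟩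
  rintro W g ⟨z, hz⟩
  exact ⟨z, hz⟩

/-- Functoriality. -/
theorem ev_whiskerRight_tp {M M' : ModSite.Mod O} (f : M ⟶ M') (N : ModSite.Mod O) {V : C}
    (m : ModSite.sect M V) (n : ModSite.sect N V) :
    ev (((ModSite.tensorBi O).map f).app N) V (tp M N V (m ⊗ₜ n)) = tp M' N V (ev f V m ⊗ₜ n) :=
  congrArg (fun (t : (toP O).obj M ⊗ (toP O).obj N ⟶ (toP O).obj (((ModSite.tensorBi O).obj M').obj N)) =>
    t.app (op V) (m ⊗ₜ[O.obj.obj (op V)] n)) ((shAdj O).unit.naturality ((toP O).map f ▷ (toP O).obj N)).symm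

theorem ev_whiskerLeft_tp (M : ModSite.Mod O) {N N' : ModSite.Mod O} (f : N ⟶ N') {V : C}
    (m : ModSite.sect M V) (n : ModSite.sect N V) :
    ev (((ModSite.tensorBi O).obj M).map f) V (tp M N V (m ⊗ₜ n)) = tp M N' V (m ⊗ₜ ev f V n) :=
  congrArg (fun (t : (toP O).obj M ⊗ (toP O).obj N ⟶ (toP O).obj (((ModSite.tensorBi O).obj M).obj N')) =>
    t.app (op V) (m ⊗ₜ[O.obj.obj (op V)] n)) ((shAdj O).unit.naturality ((toP O).obj M ◁ (toP O).map f)).symm

/-- If `M` has no sections over objects mapping to `U`, neither does `M ⊗ N`. -/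
theorem isNullOn_tensor (U : C) (M N : ModSite.Mod O) (h : ModSite.IsNullOn O U M) :
    ModSite.IsNullOn O U (((ModSite.tensorBi O).obj M).obj N) := by
  rw [isNullOn_iff] at h ⊢
  intro V f t
  obtain ⟨R, hR, h'⟩ := exists_tp M N t
  refine eq_zero_of_locally _ _ R hR fun W g hg => ?_
  obtain ⟨z, hz⟩ := h' g hg
  rw [← hz]
  have h0 : ∀ z : PT M N W, z = 0 := by
    intro z
    induction z using TensorProduct.induction_on with
    | zero => rfl
    | tmul m n =>
      rw [show m = 0 from h (g ≫ f) m, TensorProduct.zero_tmul]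
    | add a b ha hb => rw [ha, hb, add_zero]
  rw [h0 z, map_zero]

/-- If every section of `M` is locally zero or over `U`, so is every section of `M ⊗ N`. -/
theorem locally_tensor (U : C) (M N : ModSite.Mod O)
    (h : ∀ (V : C) (m : ModSite.sect M V), ∃ R ∈ J V, ∀ ⦃W : C⦄ (g : W ⟶ V), R g →
      rs M g m = 0 ∨ Nonempty (W ⟶ U))
    {V : C} (t : ModSite.sect (((ModSite.tensorBi O).obj M).obj N) V) :
    ∃ R ∈ J V, ∀ ⦃W : C⦄ (g : W ⟶ V), R g → rs _ g t = 0 ∨ Nonempty (W ⟶ U) := by
  obtain ⟨R, hR, h'⟩ := exists_tp M N t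
  refine Support.locally_bind U _ t R hR fun W g hg => ?_
  obtain ⟨z, hz⟩ := h' g hg
  have key : ∀ z : PT M N W, ∃ T ∈ J W, ∀ ⦃W' : C⦄ (g' : W' ⟶ W), T g' →
      pr M N g' z = 0 ∨ Nonempty (W' ⟶ U) := by
    intro z
    induction z using TensorProduct.induction_on with
    | zero => exact ⟨⊤, J.top_mem _, fun W' g' _ => Or.inl (map_zero _)⟩
    | tmul m n =>
      obtain ⟨T, hT, hT'⟩ := h W m
      refine ⟨T, hT, fun W' g' hg' => (hT' g' hg').imp_left fun h0 => ?_⟩
      rw [pr_tmul, h0, TensorProduct.zero_tmul]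
    | add a b ha hb =>
      obtain ⟨T, hT, hT'⟩ := ha
      obtain ⟨S, hS, hS'⟩ := hb
      refine ⟨T ⊓ S, J.intersection_covering hT hS, fun W' g' hg' => ?_⟩
      rcases hT' g' hg'.1 with h1 | h1
      · rcases hS' g' hg'.2 with h2 | h2
        · left
          rw [map_add, h1, h2, add_zero]
        · exact Or.inr h2
      · exact Or.inr h1
  obtain ⟨T, hT, hT'⟩ := key z
  refine ⟨T, hT, fun W' g' hg' => (hT' g' hg').imp_left fun h0 => ?_⟩
  rw [← rs_rs, ← hz, rs_tp, h0, map_zero]

end K787.TensSec
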